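import Mathlib

/-!
Abelian normal subgroups of transitive linear groups span fields; semilinearity.
-/

set_option autoImplicit false

namespace CfsgLib.Recognition.Huppert

variable {q : ℕ} [Fact q.Prime] {V : Type*} [AddCommGroup V] [Module (ZMod q) V] [Finite V]
  [Nontrivial V] {G : Type*} [Group G] (θ : G →* (Module.End (ZMod q) V)ˣ)

theorem unit_inv_apply (u : (Module.End (ZMod q) V)ˣ) (v : V) :
    (u : Module.End (ZMod q) V) (((u⁻¹ : (Module.End (ZMod q) V)ˣ) : Module.End (ZMod q) V) v) = v := by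
  rw [← Module.End.mul_apply, Units.mul_inv, Module.End.one_apply]

theorem unit_apply_inv (u : (Module.End (ZMod q) V)ˣ) (v : V) :
    ((u⁻¹ : (Module.End (ZMod q) V)ˣ) : Module.End (ZMod q) V) ((u : Module.End (ZMod q) V) v) = v := by
  rw [← Module.End.mul_apply, Units.inv_mul, Module.End.one_apply]

/-- The algebra spanned by the image of a subgroup. -/
noncomputable def span (A : Subgroup G) : Subalgebra (ZMod q) (Module.End (ZMod q) V) :=
  Algebra.adjoin (ZMod q) ((fun a : G => (θ a : Module.End (ZMod q) V)) '' A)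

theorem mem_span {A : Subgroup G} {a : G} (ha : a ∈ A) :
    (θ a : Module.End (ZMod q) V) ∈ span θ A := Algebra.subset_adjoin ⟨a, ha, rfl⟩

theorem conj_mem_span (A : Subgroup G) [hA : A.Normal] (g : G) {r : Module.End (ZMod q) V}
    (hr : r ∈ span θ A) :
    (θ g : Module.End (ZMod q) V) * r * ((θ g)⁻¹ : (Module.End (ZMod q) V)ˣ) ∈ span θ A := by
  rw [span] at hr
  induction hr using Algebra.adjoin_induction with
  | mem y hy =>
    obtain ⟨a, ha, rfl⟩ := hy
    have h := mem_span θ (hA.conj_mem a ha g)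
    simpa only [map_mul, map_inv, Units.val_mul] using h
  | algebraMap r =>
    rw [← Algebra.commutes, mul_assoc, Units.mul_inv, mul_one]
    exact (span θ A).algebraMap_mem r
  | add y z _ _ hy hz => rw [mul_add, add_mul]; exact add_mem hy hz
  | mul y z _ _ hy hz =>
    have h := mul_mem hy hz
    simpa only [mul_assoc, Units.inv_mul_cancel_left] using h

theorem commute_span (A : Subgroup G) (hA : ∀ a ∈ A, ∀ b ∈ A, a * b = b * a)
    {r s : Module.End (ZMod q) V} (hr : r ∈ span θ A) (hs : s ∈ span θ A) : Commute r s := by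
  refine Algebra.commute_of_mem_adjoin_of_forall_mem_commute hs ?_
  rintro _ ⟨b, hb, rfl⟩
  refine (Algebra.commute_of_mem_adjoin_of_forall_mem_commute hr ?_).symm
  rintro _ ⟨a, ha, rfl⟩
  change (θ b : Module.End (ZMod q) V) * θ a = θ a * θ b
  rw [← Units.val_mul, ← Units.val_mul, ← map_mul, ← map_mul, hA b hb a ha]

/-- In a transitive group the span of an abelian normal subgroup acts without nonzero kernel. -/
theorem span_injective (htr : ∀ v w : V, v ≠ 0 → w ≠ 0 → ∃ g, (θ g : Module.End (ZMod q) V) v = w)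
    (A : Subgroup G) [A.Normal] (hA : ∀ a ∈ A, ∀ b ∈ A, a * b = b * a)
    {r : Module.End (ZMod q) V} (hr : r ∈ span θ A) (hr0 : r ≠ 0) : Function.Injective r := by
  classical
  let C : V → Set V := fun v => (fun s : Module.End (ZMod q) V => s v) '' (span θ A : Set _)
  have hself : ∀ v, v ∈ C v := fun v => ⟨1, one_mem _, rfl⟩
  have hsub : ∀ v u, u ∈ C v → C u ⊆ C v := by
    rintro v _ ⟨s, hs, rfl⟩ _ ⟨t, ht, rfl⟩
    exact ⟨t * s, mul_mem ht hs, rfl⟩
  have hcard : ∀ v w : V, v ≠ 0 → w ≠ 0 → (C v).ncard ≤ (C w).ncard := by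
    intro v w hv hw
    obtain ⟨g, rfl⟩ := htr v w hv hw
    calc (C v).ncard = ((fun x => (θ g : Module.End (ZMod q) V) x) '' C v).ncard :=
          (Set.ncard_image_of_injective _ (Function.LeftInverse.injective (unit_apply_inv (θ g)))).symm
      _ ≤ _ := by
          refine Set.ncard_le_ncard ?_ (Set.toFinite _)
          rintro _ ⟨_, ⟨s, hs, rfl⟩, rfl⟩
          refine ⟨_, conj_mem_span θ A g hs, ?_⟩
          simp only [Module.End.mul_apply, unit_apply_inv]
  have heq : ∀ v u, u ∈ C v → u ≠ 0 → v ≠ 0 → C u = C v := fun v u hu hu0 hv0 =>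
    Set.eq_of_subset_of_ncard_le (hsub v u hu) (hcard v u hv0 hu0) (Set.toFinite _)
  rw [injective_iff_map_eq_zero r]
  intro v hv
  by_contra hv0
  obtain ⟨w, hw⟩ : ∃ w, r w ≠ 0 := by
    by_contra h
    simp only [not_exists, not_not] at h
    exact hr0 (LinearMap.ext h)
  have hw0 : w ≠ 0 := fun h => hw (by rw [h, map_zero])
  have hu : r (v + w) = r w := by rw [map_add, hv, zero_add]
  have hu0 : v + w ≠ 0 := fun h => hw (by rw [← hu, h, map_zero])
  have h1 : r w ∈ C (v + w) := ⟨r, hr, hu⟩
  have h2 : C (v + w) = C w :=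
    (heq _ _ h1 hw hu0).symm.trans (heq _ _ ⟨r, hr, rfl⟩ hw hw0)
  obtain ⟨s, hs, hse⟩ : v + w ∈ C w := h2 ▸ hself _
  have hvw : v ∈ C w := by
    refine ⟨s - 1, sub_mem hs (one_mem _), ?_⟩
    change s w - w = v
    rw [show s w = v + w from hse, add_sub_cancel_right]
  obtain ⟨t, ht, hte⟩ : w ∈ C v := (heq _ _ hvw hv0 hw0).symm ▸ hself w
  refine hw ?_
  rw [← show t v = w from hte, ← Module.End.mul_apply, (commute_span θ A hA hr ht).eq,
    Module.End.mul_apply, hv, map_zero]

/-- The span of an abelian normal subgroup is a field. -/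
theorem exists_field (htr : ∀ v w : V, v ≠ 0 → w ≠ 0 → ∃ g, (θ g : Module.End (ZMod q) V) v = w)
    (A : Subgroup G) [A.Normal] (hA : ∀ a ∈ A, ∀ b ∈ A, a * b = b * a) :
    ∃ (F : Type) (_ : Field F) (_ : Finite F) (_ : Algebra (ZMod q) F)
      (ι : F →ₐ[ZMod q] Module.End (ZMod q) V),
      Function.Injective ι ∧ ι.range = span θ A := by
  classical
  haveI : Finite (Module.End (ZMod q) V) :=
    Finite.of_injective (fun f => (f : V → V)) DFunLike.coe_injective
  set R := span θ A with hR
  letI : CommRing R := { (inferInstance : Ring R) with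
    mul_comm := fun x y => Subtype.ext (commute_span θ A hA x.2 y.2) }
  haveI : Nontrivial R := ⟨⟨0, 1, fun h => by
    obtain ⟨v, hv⟩ := exists_ne (0 : V)
    exact hv (LinearMap.congr_fun (congrArg Subtype.val h) v).symm⟩⟩
  haveI : NoZeroDivisors R := ⟨fun {a b} hab => by
    by_contra h
    rw [not_or] at h
    refine h.2 (Subtype.ext (LinearMap.ext fun v => ?_))
    refine span_injective θ htr A hA a.2 (fun e => h.1 (Subtype.ext e)) ?_
    change (a.1 * b.1) v = a.1 0
    rw [show a.1 * b.1 = 0 from congrArg Subtype.val hab]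
    simp⟩
  haveI : IsDomain R := NoZeroDivisors.to_isDomain R
  letI : Field R := (Finite.isField_of_domain R).toField
  let e : Fin (Nat.card R) ≃ R := (Finite.equivFin R).symm
  letI : Field (Fin (Nat.card R)) := e.field
  letI : Algebra (ZMod q) (Fin (Nat.card R)) := e.algebra (ZMod q)
  refine ⟨Fin (Nat.card R), inferInstance, inferInstance, inferInstance,
    R.val.comp (Equiv.algEquiv (ZMod q) e).toAlgHom, ?_, ?_⟩
  · exact Subtype.val_injective.comp (Equiv.algEquiv (ZMod q) e).injective
  · ext x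
    constructor
    · rintro ⟨y, rfl⟩
      exact ((Equiv.algEquiv (ZMod q) e) y).2
    · intro hx
      obtain ⟨y, hy⟩ := (Equiv.algEquiv (ZMod q) e).surjective ⟨x, hx⟩
      exact ⟨y, congrArg Subtype.val hy⟩

variable {F : Type} [Field F] [Finite F] [Algebra (ZMod q) F]

/-- A group normalising a field of endomorphisms acts on it by automorphisms. -/
theorem exists_galois (A : Subgroup G) [A.Normal] (ι : F →ₐ[ZMod q] Module.End (ZMod q) V)
    (hι : Function.Injective ι) (hrange : ι.range = span θ A) :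
    ∃ c : G →* (F ≃ₐ[ZMod q] F),
      (∀ g x, ι (c g x) = (θ g : Module.End (ZMod q) V) * ι x * ((θ g)⁻¹ : (Module.End (ZMod q) V)ˣ)) ∧
      ∀ g, c g = 1 ↔ ∀ a ∈ A, θ g * θ a = θ a * θ g := by
  classical
  have hmem : ∀ g x, (θ g : Module.End (ZMod q) V) * ι x * ((θ g)⁻¹ : (Module.End (ZMod q) V)ˣ) ∈ ι.range :=
    fun g x => by
      rw [hrange]
      exact conj_mem_span θ A g (hrange ▸ ⟨x, rfl⟩)
  choose f hf using fun g x => (AlgHom.mem_range ι).1 (hmem g x)
  let Φ : G →* (F →ₐ[ZMod q] F) :=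
    { toFun := fun g =>
        { toFun := f g
          map_one' := hι (by rw [hf, map_one, mul_one, Units.mul_inv])
          map_mul' := fun x y => hι (by rw [hf, map_mul, map_mul, hf, hf]; simp [mul_assoc])
          map_zero' := hι (by rw [hf, map_zero, mul_zero, zero_mul])
          map_add' := fun x y => hι (by rw [hf, map_add, map_add, hf, hf, mul_add, add_mul])
          commutes' := fun r => hι (by
            rw [hf, AlgHom.commutes, ← Algebra.commutes, mul_assoc, Units.mul_inv, mul_one]) }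
      map_one' := AlgHom.ext fun x => hι (by simp [hf])
      map_mul' := fun a b => AlgHom.ext fun x => hι (by
        change ι (f (a * b) x) = ι (f a (f b x))
        rw [hf, hf, hf]
        simp [mul_assoc]) }
  let c : G →* (F ≃ₐ[ZMod q] F) := (algEquivEquivAlgHom (ZMod q) F).symm.toMonoidHom.comp Φ
  have hc : ∀ g x, ι (c g x) = (θ g : Module.End (ZMod q) V) * ι x * ((θ g)⁻¹ : (Module.End (ZMod q) V)ˣ) :=
    fun g x => hf g x
  refine ⟨c, hc, fun g => ⟨fun h a ha => ?_, fun h => ?_⟩⟩
  · obtain ⟨x, hx⟩ := (AlgHom.mem_range ι).1 (hrange.symm ▸ mem_span θ ha : (θ a : Module.End (ZMod q) V) ∈ ι.range)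
    have e := hc g x
    rw [h, AlgEquiv.one_apply, hx, ← Units.val_mul, ← Units.val_mul, Units.val_inj] at e
    exact (mul_inv_eq_iff_eq_mul.1 e.symm)
  · refine AlgEquiv.ext fun x => hι ?_
    have hx : ι x ∈ span θ A := hrange ▸ ⟨x, rfl⟩
    have hcomm : Commute (θ g : Module.End (ZMod q) V) (ι x) := by
      refine Algebra.commute_of_mem_adjoin_of_forall_mem_commute hx ?_
      rintro _ ⟨a, ha, rfl⟩
      exact congrArg Units.val (h a ha)
    rw [AlgEquiv.one_apply, hc, hcomm.eq, mul_assoc, Units.mul_inv, mul_one]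

end CfsgLib.Recognition.Huppert
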