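import Mathlib

/-!
Index-two subgroups of groups with a cyclic normal subgroup and cyclic quotient.
-/

set_option autoImplicit false

namespace CfsgLib.Recognition.Huppert

theorem exists_index_two_of_two_power {G : Type*} [Group G] [Finite G] (N : Subgroup G) [N.Normal]
    {a : ℕ} (ha : 1 ≤ a) (hN : N.index = 2 ^ a) : ∃ M : Subgroup G, M.Normal ∧ M.index = 2 := by
  haveI : Fact (Nat.Prime 2) := ⟨Nat.prime_two⟩
  have hc : Nat.card (G ⧸ N) = 2 ^ a := hN
  obtain ⟨B, hB⟩ := Sylow.exists_subgroup_card_pow_prime (G := G ⧸ N) (n := a - 1) 2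
    (hc ▸ pow_dvd_pow 2 (by omega))
  have hBi : B.index = 2 := by
    have h := B.card_mul_index
    rw [hB, hc] at h
    have h2 : 2 ^ a = 2 ^ (a - 1) * 2 := by rw [← pow_succ]; congr 1; omega
    rw [h2] at h
    exact Nat.eq_of_mul_eq_mul_left (by positivity) h
  haveI : B.Normal := Subgroup.normal_of_index_eq_two hBi
  exact ⟨B.comap (QuotientGroup.mk' N), inferInstance,
    (Subgroup.index_comap_of_surjective B (QuotientGroup.mk'_surjective N)).trans hBi⟩

theorem exists_index_two {G Q : Type*} [Group G] [Finite G] [Group Q] [Finite Q] [IsCyclic Q]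
    (c : G →* Q) (hA : IsCyclic c.ker) (h2 : 2 ∣ Nat.card G) :
    ∃ M : Subgroup G, M.Normal ∧ M.index = 2 := by
  classical
  haveI : Fact (Nat.Prime 2) := ⟨Nat.prime_two⟩
  by_cases hodd : 2 ∣ Nat.card c.range
  · obtain ⟨g, hg⟩ := IsCyclic.exists_ofOrder_eq_natCard (α := c.range)
    set B := Subgroup.zpowers (g ^ 2) with hB
    haveI : B.Normal := Subgroup.normal_of_comm B
    refine ⟨B.comap c.rangeRestrict, inferInstance, ?_⟩
    rw [Subgroup.index_comap_of_surjective B c.rangeRestrict_surjective]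
    have h := B.card_mul_index
    rw [hB, Nat.card_zpowers, orderOf_pow, hg, Nat.gcd_eq_right hodd] at h
    obtain ⟨t, ht⟩ := hodd
    rw [ht, Nat.mul_div_cancel_left _ two_pos, mul_comm 2 t] at h
    refine Nat.eq_of_mul_eq_mul_left ?_ h
    have : 0 < Nat.card c.range := Nat.card_pos
    omega
  · have hidx : ¬ 2 ∣ c.ker.index := by rw [Subgroup.index_ker]; exact hodd
    let P : Sylow 2 G := default
    have hPle : (P : Subgroup G) ≤ c.ker := by
      intro g hg
      obtain ⟨k, hk⟩ := P.2 ⟨g, hg⟩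
      have hk' : g ^ 2 ^ k = 1 := congrArg Subtype.val hk
      have h1 : orderOf (c.rangeRestrict g) ∣ 2 ^ k :=
        orderOf_dvd_of_pow_eq_one (by rw [← map_pow, hk', map_one])
      obtain ⟨i, -, hi⟩ := (Nat.dvd_prime_pow Nat.prime_two).1 h1
      rcases Nat.eq_zero_or_pos i with rfl | h
      · rw [pow_zero, orderOf_eq_one_iff] at hi
        exact MonoidHom.mem_ker.2 (congrArg Subtype.val hi)
      · exact absurd ((dvd_pow_self 2 h.ne').trans (hi ▸ orderOf_dvd_natCard _)) hodd
    haveI hPc : IsCyclic (P : Subgroup G) := isCyclic_of_injective (Subgroup.inclusion hPle)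
      (Subgroup.inclusion_injective _)
    haveI : IsMulCommutative c.ker := inferInstance
    haveI hPsub : ((P : Subgroup G).subgroupOf c.ker).Normal := Subgroup.normal_of_comm _
    haveI hP'n : ((P.subtype hPle : Sylow 2 c.ker) : Subgroup c.ker).Normal := Subgroup.normal_of_comm _
    have hPk : ∀ g : G, ∀ x ∈ (P : Subgroup G), g * x * g⁻¹ ∈ (P : Subgroup G) := by
      intro g x hx
      have hk : g * x * g⁻¹ ∈ c.ker := (inferInstance : c.ker.Normal).conj_mem x (hPle hx) g
      obtain ⟨k, hk'⟩ := P.2 ⟨x, hx⟩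
      have hx' : x ^ 2 ^ k = 1 := congrArg Subtype.val hk'
      have hp : IsPGroup 2 (Subgroup.zpowers (⟨g * x * g⁻¹, hk⟩ : c.ker)) := by
        have hd : orderOf (⟨g * x * g⁻¹, hk⟩ : c.ker) ∣ 2 ^ k := orderOf_dvd_of_pow_eq_one (Subtype.ext (by
          change (g * x * g⁻¹) ^ 2 ^ k = 1
          rw [conj_pow, hx', mul_one, mul_inv_cancel]))
        obtain ⟨i, -, hie⟩ := (Nat.dvd_prime_pow Nat.prime_two).1 hd
        exact IsPGroup.of_card (n := i) (by rw [Nat.card_zpowers, hie])
      have hmax := (P.subtype hPle).is_maximal' (hp.to_sup_of_normal_right (P.subtype hPle).2) le_sup_right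
      have hm : (⟨g * x * g⁻¹, hk⟩ : c.ker) ∈ ((P.subtype hPle : Sylow 2 c.ker) : Subgroup c.ker) :=
        hmax.le (Subgroup.mem_sup_left (Subgroup.mem_zpowers _))
      exact hm
    haveI hPn : (P : Subgroup G).Normal := ⟨fun x hx g => hPk g x hx⟩
    let ψ : G →* MulAut (P : Subgroup G) := MulAut.conjNormal
    have hψ : ψ = 1 := by
      have hker : c.ker ≤ ψ.ker := fun a ha => MonoidHom.mem_ker.2 (MulEquiv.ext fun x => Subtype.ext (by
        rw [MulAut.conjNormal_apply]
        have hcomm : (⟨a, ha⟩ : c.ker) * ⟨x, hPle x.2⟩ = ⟨x, hPle x.2⟩ * ⟨a, ha⟩ :=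
          mul_comm' _ _
        rw [show a * (x : G) = x * a from congrArg Subtype.val hcomm, mul_inv_cancel_right]
        rfl))
      have h1 : Nat.card ψ.range ∣ c.ker.index := by
        rw [← Subgroup.index_ker]; exact Subgroup.index_dvd_of_le hker
      have h2 : ∃ b, Nat.card ψ.range = 2 ^ b := by
        have hd : Nat.card ψ.range ∣ Nat.totient (Nat.card (P : Subgroup G)) := by
          rw [← IsCyclic.card_mulAut]; exact Subgroup.card_subgroup_dvd_card _
        obtain ⟨s, hs⟩ := P.2.exists_card_eq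
        rcases Nat.eq_zero_or_pos s with rfl | hs0
        · rw [hs, pow_zero, Nat.totient_one, Nat.dvd_one] at hd
          exact ⟨0, by simpa using hd⟩
        · rw [hs, Nat.totient_prime_pow Nat.prime_two hs0] at hd
          simp only [Nat.reduceSub, mul_one] at hd
          obtain ⟨b, -, hb⟩ := (Nat.dvd_prime_pow Nat.prime_two).1 hd
          exact ⟨b, hb⟩
      obtain ⟨b, hb⟩ := h2
      rcases Nat.eq_zero_or_pos b with rfl | hb0
      · exact MonoidHom.range_eq_bot_iff.1 (Subgroup.card_eq_one.1 (by simpa using hb))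
      · exact absurd ((dvd_pow_self 2 hb0.ne').trans (hb ▸ h1)) hidx
    have hcen : Subgroup.normalizer ((P : Subgroup G) : Set G) ≤
        Subgroup.centralizer ((P : Subgroup G) : Set G) := fun g _ => by
      refine Subgroup.mem_centralizer_iff.2 fun x hx => ?_
      have h := congrArg Subtype.val (DFunLike.congr_fun (DFunLike.congr_fun hψ g) (⟨x, hx⟩ : (P : Subgroup G)))
      rw [MulAut.conjNormal_apply] at h
      exact (mul_inv_eq_iff_eq_mul.1 (h.trans rfl)).symm
    have hcompl := MonoidHom.ker_transferSylow_isComplement' P hcen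
    obtain ⟨s, hs⟩ := P.2.exists_card_eq
    have hs1 : 1 ≤ s := by
      by_contra h0
      have h : Nat.card (P : Subgroup G) = 1 := by rw [hs, show s = 0 by omega, pow_zero]
      exact P.ne_bot_of_dvd_card h2 (Subgroup.card_eq_one.1 h)
    exact exists_index_two_of_two_power _ hs1 (hcompl.symm.index_eq_card.trans hs)

end CfsgLib.Recognition.Huppert
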