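import Mathlib
import Cfsg.Agent.Lib.Recognition.Huppert.Basic
import Cfsg.Agent.Lib.Recognition.Huppert.Semilinear

/-!
Linear consequences for a transitive group with an abelian normal subgroup.
-/

set_option autoImplicit false

namespace CfsgLib.Recognition.Huppert

variable {q : ℕ} [Fact q.Prime] {V : Type*} [AddCommGroup V] [Module (ZMod q) V] [Finite V]
  [Nontrivial V] {G : Type*} [Group G] [Finite G] (θ : G →* (Module.End (ZMod q) V)ˣ)

/-- An abelian subgroup maximal among abelian normal subgroups. -/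
theorem exists_maximal_abelian (G : Type*) [Group G] [Finite G] :
    ∃ A : Subgroup G, A.Normal ∧ (∀ a ∈ A, ∀ b ∈ A, a * b = b * a) ∧
      ∀ B : Subgroup G, B.Normal → A ≤ B → (∀ a ∈ B, ∀ b ∈ B, a * b = b * a) → B ≤ A := by
  obtain ⟨A, ⟨hn, hab⟩, hmax⟩ := (Set.toFinite
    {A : Subgroup G | A.Normal ∧ ∀ a ∈ A, ∀ b ∈ A, a * b = b * a}).exists_maximal
    ⟨⊥, inferInstance, fun a ha b hb => by rw [Subgroup.mem_bot.1 ha, Subgroup.mem_bot.1 hb]⟩
  exact ⟨A, hn, hab, fun B h1 h2 h3 => hmax ⟨h1, h3⟩ h2⟩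

omit [Finite G] in
/-- A transitive group has order divisible by the number of nonzero vectors. -/
theorem card_nonzero_dvd (htr : ∀ v w : V, v ≠ 0 → w ≠ 0 → ∃ g, (θ g : Module.End (ZMod q) V) v = w) :
    Nat.card V - 1 ∣ Nat.card G := by
  classical
  let act : MulAction G V := MulAction.compHom V ((Units.coeHom _).comp θ)
  obtain ⟨v₀, hv₀⟩ := exists_ne (0 : V)
  have horb : @MulAction.orbit G V act.toSMul v₀ = {0}ᶜ := by
    ext w
    constructor
    · rintro ⟨g, rfl⟩ h0
      refine hv₀ ?_
      have h0' : (θ g : Module.End (ZMod q) V) v₀ = 0 := h0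
      rw [← unit_apply_inv (θ g) v₀, h0', map_zero]
    · intro hw
      obtain ⟨g, hg⟩ := htr v₀ w hv₀ hw
      exact ⟨g, hg⟩
  haveI := Fintype.ofFinite V
  have h := @MulAction.index_stabilizer G V _ act v₀
  rw [horb, Set.ncard_compl, Set.ncard_singleton] at h
  rw [← h]
  exact Subgroup.index_dvd_card _

variable {F : Type} [Field F] [Finite F] [Algebra (ZMod q) F]
  (ι : F →ₐ[ZMod q] Module.End (ZMod q) V)

omit [Finite G] [Finite F] in
/-- A group mapping into a field of endomorphisms. -/
theorem exists_character (hι : Function.Injective ι) (A : Subgroup G)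
    (hrange : ι.range = span θ A) :
    ∃ f : A →* Fˣ, ∀ a : A, ι (f a : F) = θ (a : G) := by
  classical
  have h : ∀ a : A, ∃ x : F, ι x = θ (a : G) := fun a =>
    (AlgHom.mem_range ι).1 (hrange.symm ▸ mem_span θ a.2)
  choose f hf using h
  let g : A →* F :=
    { toFun := f
      map_one' := hι (by simp [hf])
      map_mul' := fun a b => hι (by simp [hf]) }
  exact ⟨g.toHomUnits, fun a => hf a⟩

omit [Finite G] [Finite F] in
/-- The semilinear case. -/
theorem semilinear_of_card_eq (hι : Function.Injective ι) [Fintype F]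
    (hcard : Nat.card V = Nat.card F)
    (c : G →* (F ≃ₐ[ZMod q] F))
    (hc : ∀ g x, ι (c g x) = (θ g : Module.End (ZMod q) V) * ι x * ((θ g)⁻¹ : (Module.End (ZMod q) V)ˣ)) :
    ∃ e : V ≃+ F, ∀ g : G, ∃ (a : F) (σ : F ≃+* F), ∀ v : V,
      e ((θ g : Module.End (ZMod q) V) v) = a * σ (e v) := by
  classical
  obtain ⟨v₀, hv₀⟩ := exists_ne (0 : V)
  let f : F →+ V := AddMonoidHom.mk' (fun x => ι x v₀) fun x y => by
    simp [map_add, LinearMap.add_apply]
  have hinj : Function.Injective f := by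
    rw [injective_iff_map_eq_zero]
    intro x hx
    by_contra hx0
    refine hv₀ ?_
    have h : ι x⁻¹ (ι x v₀) = v₀ := by
      rw [← Module.End.mul_apply, ← map_mul, inv_mul_cancel₀ hx0, map_one, Module.End.one_apply]
    rw [show ι x v₀ = 0 from hx, map_zero] at h
    exact h.symm
  have hbij : Function.Bijective f :=
    (Nat.bijective_iff_injective_and_card f).2 ⟨hinj, hcard.symm⟩
  let e := (AddEquiv.ofBijective f hbij).symm
  have he : ∀ v, ι (e v) v₀ = v := fun v => (AddEquiv.ofBijective f hbij).apply_symm_apply v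
  refine ⟨e, fun g => ⟨e ((θ g : Module.End (ZMod q) V) v₀), (c g).toRingEquiv, fun v => ?_⟩⟩
  refine (AddEquiv.ofBijective f hbij).injective ?_
  change ι (e _) v₀ = ι (e _ * c g (e v)) v₀
  rw [he, mul_comm, map_mul, Module.End.mul_apply, he, hc]
  simp only [Module.End.mul_apply, unit_apply_inv, he]

end CfsgLib.Recognition.Huppert
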