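import Mathlib

/-!
Maximal class-two extensions of a maximal abelian normal subgroup in a solvable group.
-/

set_option autoImplicit false

namespace CfsgLib.Recognition.Huppert

open Subgroup
open scoped commutatorElement

variable {G : Type*} [Group G]

/-- Finite abelian groups have at most their order many homomorphisms into a field. -/
theorem card_hom_le {M : Type*} [CommGroup M] [Finite M] {F : Type*} [Field F] :
    Finite (M →* Fˣ) ∧ Nat.card (M →* Fˣ) ≤ Nat.card M := by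
  classical
  haveI := Fintype.ofFinite M
  have h := (linearIndependent_monoidHom M F).comp (fun φ : M →* Fˣ => (Units.coeHom F).comp φ)
    (fun φ ψ hφ => MonoidHom.ext fun x => Units.ext (DFunLike.congr_fun hφ x))
  haveI : Fintype (M →* Fˣ) := @Fintype.ofFinite _ h.finite
  refine ⟨inferInstance, ?_⟩
  have hle := h.fintype_card_le_finrank
  rwa [Module.finrank_fintype_fun_eq_card, ← Nat.card_eq_fintype_card, ← Nat.card_eq_fintype_card] at hle

theorem commutator_sup_le {A E D : Subgroup G} [E.Normal] [D.Normal] [A.Normal]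
    (hE : ⁅E, E⁆ ≤ A) (hD : ⁅D, D⁆ ≤ A) (hED : ⁅E, D⁆ ≤ A) : ⁅E ⊔ D, E ⊔ D⁆ ≤ A := by
  let π := QuotientGroup.mk' A
  have hc : ∀ (X Y : Subgroup G), ⁅X, Y⁆ ≤ A → ∀ x ∈ X, ∀ y ∈ Y, π x * π y = π y * π x := by
    intro X Y h x hx y hy
    rw [← commutatorElement_eq_one_iff_mul_comm, ← map_commutatorElement]
    exact (QuotientGroup.eq_one_iff _).2 (h (commutator_mem_commutator hx hy))
  rw [commutator_le]
  intro a ha b hb
  obtain ⟨e₁, he₁, d₁, hd₁, rfl⟩ := Subgroup.mem_sup_of_normal_left.1 ha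
  obtain ⟨e₂, he₂, d₂, hd₂, rfl⟩ := Subgroup.mem_sup_of_normal_left.1 hb
  rw [← QuotientGroup.eq_one_iff]
  change π ⁅e₁ * d₁, e₂ * d₂⁆ = 1
  rw [map_commutatorElement, commutatorElement_eq_one_iff_mul_comm, map_mul, map_mul]
  have h1 : Commute (π e₁) (π e₂) := hc E E hE e₁ he₁ e₂ he₂
  have h2 : Commute (π e₁) (π d₂) := hc E D hED e₁ he₁ d₂ hd₂
  have h3 : Commute (π e₂) (π d₁) := hc E D hED e₂ he₂ d₁ hd₁
  have h4 : Commute (π d₁) (π d₂) := hc D D hD d₁ hd₁ d₂ hd₂
  exact Commute.mul_left (h1.mul_right h2) (h3.symm.mul_right h4)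

/-- A normal subgroup of `C(A)` which is solvable and not inside `A` contains a normal subgroup with
commutator inside `A`. -/
theorem exists_abelian_step [Finite G] (hsol : Group.IsSolvable G) (A M : Subgroup G) [A.Normal]
    [M.Normal] (hMA : ¬ M ≤ A) :
    ∃ D : Subgroup G, D.Normal ∧ D ≤ M ⊔ A ∧ A ≤ D ∧ ¬ D ≤ A ∧ ⁅D, D⁆ ≤ A := by
  classical
  let π := QuotientGroup.mk' A
  haveI : Group.IsSolvable (G ⧸ A) := Group.isSolvable_of_surjective (QuotientGroup.mk'_surjective A)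
  haveI hMn : (M.map π).Normal := Subgroup.Normal.map inferInstance π (QuotientGroup.mk'_surjective A)
  have hne : M.map π ≠ ⊥ := by
    rw [Ne, Subgroup.map_eq_bot_iff, QuotientGroup.ker_mk']
    exact hMA
  obtain ⟨B, ⟨hBn, hB, hBle⟩, hBmin⟩ := (Set.toFinite
    {B : Subgroup (G ⧸ A) | B.Normal ∧ B ≠ ⊥ ∧ B ≤ M.map π}).exists_minimal
    ⟨M.map π, hMn, hne, le_rfl⟩
  haveI := hBn
  haveI : Nontrivial B := B.nontrivial_iff_ne_bot.mpr hB
  have hbot : (commutator B).map B.subtype = ⊥ := by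
    by_contra h
    refine (Group.IsSolvable.commutator_lt_top_of_nontrivial B).ne
      (Subgroup.map_injective B.subtype_injective ?_)
    rw [← MonoidHom.range_eq_map, Subgroup.range_subtype]
    exact le_antisymm (Subgroup.map_subtype_le _)
      (hBmin ⟨inferInstance, h, (Subgroup.map_subtype_le _).trans hBle⟩ (Subgroup.map_subtype_le _))
  refine ⟨B.comap π, inferInstance, ?_, ?_, fun h => hB ?_, ?_⟩
  · refine (Subgroup.comap_mono hBle).trans ?_
    rw [Subgroup.comap_map_eq, QuotientGroup.ker_mk']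
  · intro a ha
    rw [Subgroup.mem_comap, show π a = 1 from (QuotientGroup.eq_one_iff a).2 ha]
    exact one_mem _
  · rw [← Subgroup.map_comap_eq_self_of_surjective (QuotientGroup.mk'_surjective A) B, eq_bot_iff]
    refine (Subgroup.map_mono h).trans ?_
    rw [QuotientGroup.map_mk'_self]
  · rw [commutator_le]
    intro a ha b hb
    rw [← QuotientGroup.eq_one_iff]
    change π ⁅a, b⁆ = 1
    rw [map_commutatorElement]
    have h1 : ((⁅(⟨π a, ha⟩ : B), ⟨π b, hb⟩⁆ : B) : G ⧸ A) ∈ (commutator B).map B.subtype :=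
      ⟨_, Subgroup.commutator_mem_commutator (Subgroup.mem_top _) (Subgroup.mem_top _), rfl⟩
    rw [hbot, Subgroup.mem_bot] at h1
    exact h1

/-- The maximal extension. -/
theorem exists_extension [Finite G] (hsol : Group.IsSolvable G) (A : Subgroup G) [A.Normal]
    (hA : ∀ a ∈ A, ∀ b ∈ A, a * b = b * a)
    (hmax : ∀ B : Subgroup G, B.Normal → A ≤ B → (∀ a ∈ B, ∀ b ∈ B, a * b = b * a) → B ≤ A)
    (hCA : ¬ Subgroup.centralizer (A : Set G) ≤ A) :
    ∃ E : Subgroup G, E.Normal ∧ A ≤ E ∧ E ≤ Subgroup.centralizer (A : Set G) ∧ ¬ E ≤ A ∧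
      ⁅E, E⁆ ≤ A ∧ (∀ x ∈ E, (∀ y ∈ E, x * y = y * x) → x ∈ A) ∧
      ∀ g ∈ Subgroup.centralizer (A : Set G), (∀ y ∈ E, g * y = y * g) → g ∈ A := by
  classical
  set K := Subgroup.centralizer (A : Set G) with hK
  have hAK : A ≤ K := fun a ha => Subgroup.mem_centralizer_iff.2 fun b hb => hA b hb a ha
  haveI : K.Normal := inferInstance
  obtain ⟨D₀, hD₀n, hD₀le, hAD₀, hD₀A, hD₀c⟩ := exists_abelian_step hsol A K hCA
  rw [sup_of_le_left hAK] at hD₀le
  obtain ⟨E, ⟨hEn, hAE, hEK, hEA, hEc⟩, hEmax⟩ := (Set.toFinite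
    {E : Subgroup G | E.Normal ∧ A ≤ E ∧ E ≤ K ∧ ¬ E ≤ A ∧ ⁅E, E⁆ ≤ A}).exists_maximal
    ⟨D₀, hD₀n, hAD₀, hD₀le, hD₀A, hD₀c⟩
  haveI := hEn
  have hrad : ∀ x ∈ E, (∀ y ∈ E, x * y = y * x) → x ∈ A := by
    intro x hx hxc
    exact hmax (E ⊓ Subgroup.centralizer (E : Set G)) inferInstance
      (le_inf hAE fun a ha => Subgroup.mem_centralizer_iff.2 fun y hy =>
        ((Subgroup.mem_centralizer_iff.1 (hEK hy)) a ha).symm)
      (fun a ha b hb => Subgroup.mem_centralizer_iff.1 hb.2 a ha.1)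
      ⟨hx, Subgroup.mem_centralizer_iff.2 fun y hy => (hxc y hy).symm⟩
  refine ⟨E, hEn, hAE, hEK, hEA, hEc, hrad, fun g hgK hgc => ?_⟩
  by_contra hgA
  set M := K ⊓ Subgroup.centralizer (E : Set G) with hM
  haveI : M.Normal := inferInstance
  have hgM : g ∈ M := ⟨hgK, Subgroup.mem_centralizer_iff.2 fun y hy => (hgc y hy).symm⟩
  obtain ⟨D, hDn, hDle, hAD, hDA, hDc⟩ := exists_abelian_step hsol A M fun h => hgA (h hgM)
  haveI := hDn
  have hAM : A ≤ M := le_inf hAK fun a ha => Subgroup.mem_centralizer_iff.2 fun y hy =>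
    ((Subgroup.mem_centralizer_iff.1 (hEK hy)) a ha).symm
  rw [sup_of_le_left hAM] at hDle
  have hED : ⁅E, D⁆ ≤ A := by
    rw [commutator_le]
    intro y hy d hd
    rw [commutatorElement_eq_one_iff_mul_comm.2 (Subgroup.mem_centralizer_iff.1 (hDle hd).2 y hy)]
    exact one_mem _
  have hle : E ⊔ D ≤ E := hEmax ⟨inferInstance, hAE.trans le_sup_left,
    sup_le hEK (hDle.trans inf_le_left), fun h => hEA (le_sup_left.trans h),
    commutator_sup_le hEc hDc hED⟩ le_sup_left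
  refine hDA fun d hd => hrad d (hle (Subgroup.mem_sup_right hd)) fun y hy => ?_
  exact ((Subgroup.mem_centralizer_iff.1 (hDle hd).2) y hy).symm

end CfsgLib.Recognition.Huppert
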