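import Mathlib
import Cfsg.Agent.Lib.Recognition.Huppert.Extension

/-!
The abelian section of a class-two extension, its commutator pairing and the action on it.
-/

set_option autoImplicit false

namespace CfsgLib.Recognition.Huppert

open scoped commutatorElement IsMulCommutative

variable {G : Type*} [Group G] (A E : Subgroup G) [A.Normal] [E.Normal]

/-- The section `E / A` inside `G / A`. -/
abbrev Sect : Subgroup (G ⧸ A) := E.map (QuotientGroup.mk' A)

theorem sect_normal : (Sect A E).Normal :=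
  Subgroup.Normal.map inferInstance _ (QuotientGroup.mk'_surjective A)

/-- The action on the section. -/
noncomputable def act : G →* MulAut (Sect A E) :=
  letI := sect_normal A E
  (MulAut.conjNormal (H := Sect A E)).comp (QuotientGroup.mk' A)

theorem act_coe (g : G) (u : Sect A E) :
    ((act A E g u : Sect A E) : G ⧸ A) =
      (QuotientGroup.mk' A g) * (u : G ⧸ A) * (QuotientGroup.mk' A g)⁻¹ := by
  letI := sect_normal A E
  exact MulAut.conjNormal_apply _ _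

theorem mem_ker_act (g : G) : g ∈ (act A E).ker ↔ ∀ y ∈ E, ⁅g, y⁆ ∈ A := by
  constructor
  · intro h y hy
    have hu := congrArg Subtype.val
      (DFunLike.congr_fun (MonoidHom.mem_ker.1 h) ⟨_, y, hy, rfl⟩)
    rw [act_coe] at hu
    rw [← QuotientGroup.eq_one_iff]
    change QuotientGroup.mk' A ⁅g, y⁆ = 1
    rw [map_commutatorElement, commutatorElement_def]
    rw [hu]
    exact mul_inv_cancel _
  · intro h
    refine MonoidHom.mem_ker.2 (MulEquiv.ext fun u => Subtype.ext ?_)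
    obtain ⟨y, hy, hyu⟩ := u.2
    rw [MulAut.one_apply, act_coe, ← hyu, mul_inv_eq_iff_eq_mul, ← commutatorElement_eq_one_iff_mul_comm,
      ← map_commutatorElement, QuotientGroup.mk'_apply, QuotientGroup.eq_one_iff]
    exact h y hy

theorem sect_isMulCommutative (hc : ⁅E, E⁆ ≤ A) : IsMulCommutative (Sect A E) := by
  refine ⟨⟨fun u v => Subtype.ext ?_⟩⟩
  obtain ⟨x, hx, hxu⟩ := u.2
  obtain ⟨y, hy, hyv⟩ := v.2
  change (u : G ⧸ A) * (v : G ⧸ A) = (v : G ⧸ A) * (u : G ⧸ A)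
  rw [← hxu, ← hyv, ← commutatorElement_eq_one_iff_mul_comm, ← map_commutatorElement,
    QuotientGroup.mk'_apply, QuotientGroup.eq_one_iff]
  exact hc (Subgroup.commutator_mem_commutator hx hy)

theorem card_sect [Finite G] (hAE : A ≤ E) : Nat.card (Sect A E) = A.relIndex E := by
  have h := Subgroup.relIndex_map_map (QuotientGroup.mk' A) (⊥ : Subgroup G) E
  rw [Subgroup.map_bot, Subgroup.relIndex_bot_left, QuotientGroup.ker_mk', bot_sup_eq,
    sup_of_le_left hAE] at h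
  exact h

theorem card_eq_sect [Finite G] (hAE : A ≤ E) :
    Nat.card E = Nat.card A * Nat.card (Sect A E) := by
  rw [card_sect A E hAE, ← Subgroup.relIndex_bot_left E, ← Subgroup.relIndex_bot_left A,
    Subgroup.relIndex_mul_relIndex ⊥ A E bot_le hAE]

/-- The commutator pairing. -/
theorem exists_pairing {F : Type*} [Field F] (f : A →* Fˣ) (hf : Function.Injective f) (hAE : A ≤ E)
    (hE : E ≤ Subgroup.centralizer (A : Set G)) (hc : ⁅E, E⁆ ≤ A)
    (hrad : ∀ x ∈ E, (∀ y ∈ E, x * y = y * x) → x ∈ A) :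
    ∃ β : Sect A E →* Sect A E →* Fˣ,
      (∀ x (hx : x ∈ E) y (hy : y ∈ E), β ⟨_, x, hx, rfl⟩ ⟨_, y, hy, rfl⟩ =
        f ⟨⁅x, y⁆, hc (Subgroup.commutator_mem_commutator hx hy)⟩) ∧
      (∀ u, β u u = 1) ∧ (∀ u, (∀ v, β u v = 1) → u = 1) ∧
      ∀ g ∈ Subgroup.centralizer (A : Set G), ∀ u v, β (act A E g u) (act A E g v) = β u v := by
  classical
  have hcen : ∀ a ∈ A, ∀ y ∈ E, a * y = y * a := fun a ha y hy =>
    Subgroup.mem_centralizer_iff.1 (hE hy) a ha
  have hm : ∀ x ∈ E, ∀ y ∈ E, ⁅x, y⁆ ∈ A := fun x hx y hy =>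
    hc (Subgroup.commutator_mem_commutator hx hy)
  have hbil1 : ∀ x ∈ E, ∀ y ∈ E, ∀ z ∈ E, ⁅x * y, z⁆ = ⁅x, z⁆ * ⁅y, z⁆ := by
    intro x hx y hy z hz
    have h : x * ⁅y, z⁆ * x⁻¹ = ⁅y, z⁆ := by
      rw [← hcen _ (hm y hy z hz) x hx, mul_inv_cancel_right]
    calc ⁅x * y, z⁆ = x * ⁅y, z⁆ * x⁻¹ * ⁅x, z⁆ := by simp only [commutatorElement_def]; group
      _ = ⁅y, z⁆ * ⁅x, z⁆ := by rw [h]
      _ = _ := hcen _ (hm y hy z hz) _ (hAE (hm x hx z hz))
  have hbil2 : ∀ x ∈ E, ∀ y ∈ E, ∀ z ∈ E, ⁅x, y * z⁆ = ⁅x, y⁆ * ⁅x, z⁆ := by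
    intro x hx y hy z hz
    have h : y * ⁅x, z⁆ * y⁻¹ = ⁅x, z⁆ := by
      rw [← hcen _ (hm x hx z hz) y hy, mul_inv_cancel_right]
    calc ⁅x, y * z⁆ = ⁅x, y⁆ * (y * ⁅x, z⁆ * y⁻¹) := by simp only [commutatorElement_def]; group
      _ = _ := by rw [h]
  have htriv1 : ∀ a ∈ A, ∀ y ∈ E, ⁅a, y⁆ = 1 := fun a ha y hy =>
    commutatorElement_eq_one_iff_mul_comm.2 (hcen a ha y hy)
  have htriv2 : ∀ a ∈ A, ∀ y ∈ E, ⁅y, a⁆ = 1 := fun a ha y hy =>
    commutatorElement_eq_one_iff_mul_comm.2 (hcen a ha y hy).symm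
  have hcongr : ∀ x ∈ E, ∀ x' ∈ E, ∀ y ∈ E, ∀ y' ∈ E, QuotientGroup.mk' A x = QuotientGroup.mk' A x' →
      QuotientGroup.mk' A y = QuotientGroup.mk' A y' → ⁅x, y⁆ = ⁅x', y'⁆ := by
    intro x hx x' hx' y hy y' hy' e1 e2
    have ha : x⁻¹ * x' ∈ A := QuotientGroup.eq.1 e1
    have hb : y⁻¹ * y' ∈ A := QuotientGroup.eq.1 e2
    rw [← mul_inv_cancel_left x x', ← mul_inv_cancel_left y y',
      hbil1 x hx _ (hAE ha) _ (mul_mem hy (hAE hb)), htriv1 _ ha _ (mul_mem hy (hAE hb)), mul_one,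
      hbil2 x hx y hy _ (hAE hb), htriv2 _ hb x hx, mul_one]
  choose s hs hs' using fun u : Sect A E => u.2
  let b : Sect A E → Sect A E → Fˣ := fun u v => f ⟨⁅s u, s v⁆, hm _ (hs u) _ (hs v)⟩
  have hb : ∀ x (hx : x ∈ E) y (hy : y ∈ E) (u v : Sect A E), (u : G ⧸ A) = QuotientGroup.mk' A x →
      (v : G ⧸ A) = QuotientGroup.mk' A y → b u v = f ⟨⁅x, y⁆, hm x hx y hy⟩ := by
    intro x hx y hy u v hu hv
    exact congrArg f (Subtype.ext
      (hcongr _ (hs u) x hx _ (hs v) y hy ((hs' u).trans hu) ((hs' v).trans hv)))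
  have hmul1 : ∀ u v w, b (u * v) w = b u w * b v w := by
    intro u v w
    rw [hb (s u * s v) (mul_mem (hs u) (hs v)) (s w) (hs w) (u * v) w
      (by rw [Subgroup.coe_mul, map_mul, hs', hs']) (hs' w).symm, ← map_mul]
    exact congrArg f (Subtype.ext (hbil1 _ (hs u) _ (hs v) _ (hs w)))
  have hmul2 : ∀ u v w, b u (v * w) = b u v * b u w := by
    intro u v w
    rw [hb (s u) (hs u) (s v * s w) (mul_mem (hs v) (hs w)) u (v * w)
      (hs' u).symm (by rw [Subgroup.coe_mul, map_mul, hs', hs']), ← map_mul]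
    exact congrArg f (Subtype.ext (hbil2 _ (hs u) _ (hs v) _ (hs w)))
  let β : Sect A E →* Sect A E →* Fˣ :=
    MonoidHom.mk' (fun u => MonoidHom.mk' (b u) (hmul2 u))
      fun u v => MonoidHom.ext fun w => hmul1 u v w
  have hβ : ∀ u v, β u v = b u v := fun _ _ => rfl
  refine ⟨β, fun x hx y hy => (hβ _ _).trans (hb x hx y hy _ _ rfl rfl), fun u => ?_, fun u hu => ?_,
    fun g hg u v => ?_⟩
  · rw [hβ]
    refine (congrArg f (Subtype.ext ?_)).trans (map_one f)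
    exact commutatorElement_self _
  · have hsA : s u ∈ A := by
      refine hrad _ (hs u) fun y hy => ?_
      have h := hu ⟨_, y, hy, rfl⟩
      rw [hβ, hb (s u) (hs u) y hy u _ (hs' u).symm rfl, ← map_one f] at h
      exact commutatorElement_eq_one_iff_mul_comm.1 (congrArg Subtype.val (hf h))
    refine Subtype.ext ((hs' u).symm.trans ?_)
    rw [QuotientGroup.mk'_apply, Subgroup.coe_one, QuotientGroup.eq_one_iff]
    exact hsA
  · rw [hβ, hβ]
    have hgE : ∀ w, g * s w * g⁻¹ ∈ E := fun w => (inferInstance : E.Normal).conj_mem _ (hs w) g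
    rw [hb _ (hgE u) _ (hgE v) _ _ (by rw [act_coe, map_mul, map_mul, map_inv, hs'])
      (by rw [act_coe, map_mul, map_mul, map_inv, hs'])]
    refine congrArg f (Subtype.ext ?_)
    change ⁅g * s u * g⁻¹, g * s v * g⁻¹⁆ = ⁅s u, s v⁆
    rw [show ⁅g * s u * g⁻¹, g * s v * g⁻¹⁆ = g * ⁅s u, s v⁆ * g⁻¹ by
      simp only [commutatorElement_def]; group]
    rw [← Subgroup.mem_centralizer_iff.1 hg _ (hm _ (hs u) _ (hs v)), mul_inv_cancel_right]

end CfsgLib.Recognition.Huppert
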