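import Mathlib
import Cfsg.Agent.Lib.Recognition.Huppert.Linear
import Cfsg.Agent.Lib.Recognition.Huppert.Section

/-!
The order of the section is at most the square of the dimension.
-/

set_option autoImplicit false

namespace CfsgLib.Recognition.Huppert

open scoped commutatorElement

variable {q : ℕ} [Fact q.Prime] {V : Type*} [AddCommGroup V] [Module (ZMod q) V] [Finite V]
  [Nontrivial V] {G : Type*} [Group G] [Finite G] (θ : G →* (Module.End (ZMod q) V)ˣ)

omit [Finite V] [Nontrivial V] [Finite G] in
/-- Elements centralising a subgroup commute with its span. -/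
theorem commute_of_centralizes {A : Subgroup G} {g : G}
    (hg : g ∈ Subgroup.centralizer (A : Set G)) {r : Module.End (ZMod q) V} (hr : r ∈ span θ A) :
    Commute (θ g : Module.End (ZMod q) V) r := by
  refine Algebra.commute_of_mem_adjoin_of_forall_mem_commute hr ?_
  rintro _ ⟨a, ha, rfl⟩
  change (θ g : Module.End (ZMod q) V) * θ a = θ a * θ g
  rw [← Units.val_mul, ← Units.val_mul, ← map_mul, ← map_mul, Subgroup.mem_centralizer_iff.1 hg a ha]

omit [Finite G] in
/-- Primes of a group with a nondegenerate pairing into `Fˣ` taking values in a subgroup. -/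
theorem prime_dvd_of_pairing {M : Type*} [Group M] [Finite M] {F : Type*} [Field F] {A : Subgroup G}
    [Finite A] (f : A →* Fˣ) (β : M →* M →* Fˣ) (hnd : ∀ u, (∀ v, β u v = 1) → u = 1)
    (hval : ∀ u v, ∃ a, f a = β u v) {r : ℕ} [Fact r.Prime] (hr : r ∣ Nat.card M) :
    r ∣ Nat.card A := by
  obtain ⟨u, hu⟩ := exists_prime_orderOf_dvd_card' (G := M) r hr
  obtain ⟨v, hv⟩ : ∃ v, β u v ≠ 1 := by
    by_contra h
    simp only [not_exists, not_not] at h
    rw [hnd u h, orderOf_one] at hu
    exact (Fact.out : r.Prime).one_lt.ne hu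
  have h1 : β u v ^ r = 1 := by
    rw [← MonoidHom.pow_apply, ← map_pow, ← hu, pow_orderOf_eq_one, map_one, MonoidHom.one_apply]
  obtain ⟨a, ha⟩ := hval u v
  rw [← orderOf_eq_prime h1 hv, ← ha]
  exact (orderOf_map_dvd f a).trans (orderOf_dvd_natCard a)

variable {F : Type} [Field F] [Finite F] [Algebra (ZMod q) F]
  (ι : F →ₐ[ZMod q] Module.End (ZMod q) V)

/-- The bound. -/
theorem card_sect_le (hι : Function.Injective ι) (A E : Subgroup G) [A.Normal] [E.Normal]
    (hrange : ι.range = span θ A) (hE : E ≤ Subgroup.centralizer (A : Set G)) (hc : ⁅E, E⁆ ≤ A)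
    (f : A →* Fˣ) (hf : ∀ a : A, ι (f a : F) = θ (a : G))
    (β : Sect A E →* Sect A E →* Fˣ)
    (hβ : ∀ x (hx : x ∈ E) y (hy : y ∈ E), β ⟨_, x, hx, rfl⟩ ⟨_, y, hy, rfl⟩ =
        f ⟨⁅x, y⁆, hc (Subgroup.commutator_mem_commutator hx hy)⟩)
    (halt : ∀ u, β u u = 1) (hnd : ∀ u, (∀ v, β u v = 1) → u = 1)
    (hM : (Nat.card (Sect A E) : F) ≠ 0) {e : ℕ} (he : Nat.card V = Nat.card F ^ e) :
    Nat.card (Sect A E) ≤ e * e := by
  classical
  letI : Module F V := Module.compHom V ι.toRingHom
  haveI : Module.Finite F V := Module.Finite.of_finite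
  haveI := Fintype.ofFinite (Sect A E)
  choose s hs hs' using fun u : Sect A E => u.2
  have hcomm : ∀ u z, Commute (θ (s u) : Module.End (ZMod q) V) (ι z) := fun u z =>
    commute_of_centralizes θ (hE (hs u)) (hrange ▸ ⟨z, rfl⟩)
  let T : Sect A E → (V →ₗ[F] V) := fun u =>
    { toFun := (θ (s u) : Module.End (ZMod q) V)
      map_add' := map_add _
      map_smul' := fun z v => by
        change (θ (s u) : Module.End (ZMod q) V) (ι z v) = ι z ((θ (s u) : Module.End (ZMod q) V) v)
        rw [← Module.End.mul_apply, (hcomm u z).eq, Module.End.mul_apply] }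
  have hT : ∀ u v, T u v = (θ (s u) : Module.End (ZMod q) V) v := fun u v => rfl
  have hli : LinearIndependent F T := by
    rw [Fintype.linearIndependent_iff]
    intro h hsum u₀
    have hS : ∑ u, ι (h u) * (θ (s u) : Module.End (ZMod q) V) = 0 := by
      refine LinearMap.ext fun v => ?_
      have := LinearMap.congr_fun hsum v
      simp only [LinearMap.coe_sum, Finset.sum_apply, LinearMap.smul_apply, LinearMap.zero_apply, hT] at this
      simp only [LinearMap.coe_sum, Finset.sum_apply, LinearMap.zero_apply, Module.End.mul_apply]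
      exact this
    have hb : ∀ w u, ι ((β w u : Fˣ) : F) * (θ (s u) : Module.End (ZMod q) V) =
        θ (s w) * θ (s u) * ((θ (s w))⁻¹ : (Module.End (ZMod q) V)ˣ) := by
      intro w u
      have hw : (⟨_, s w, hs w, rfl⟩ : Sect A E) = w := Subtype.ext (hs' w)
      have hu : (⟨_, s u, hs u, rfl⟩ : Sect A E) = u := Subtype.ext (hs' u)
      have h1 := hβ (s w) (hs w) (s u) (hs u)
      rw [hw, hu] at h1
      rw [h1, hf, ← Units.val_mul, ← Units.val_mul, ← Units.val_mul, ← map_inv, ← map_mul, ← map_mul, ← map_mul,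
        Units.val_inj]
      congr 1
      simp only [commutatorElement_def, inv_mul_cancel_right]
    have hconj : ∀ w, ∑ u, ι (h u * ((β w u : Fˣ) : F)) * (θ (s u) : Module.End (ZMod q) V) = 0 := by
      intro w
      have h0 := congrArg (fun S => (θ (s w) : Module.End (ZMod q) V) * S *
        ((θ (s w))⁻¹ : (Module.End (ZMod q) V)ˣ)) hS
      simp only [mul_zero, zero_mul, Finset.mul_sum, Finset.sum_mul] at h0
      rw [← h0]
      refine Finset.sum_congr rfl fun u _ => ?_
      rw [map_mul, mul_assoc, hb, ← mul_assoc (θ (s w) : Module.End (ZMod q) V), (hcomm w (h u)).eq]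
      simp only [mul_assoc]
    let χ : Sect A E → (Sect A E →* F) := fun u =>
      (Units.coeHom F).comp (β.flip u / β.flip u₀)
    have hχ : ∀ u, u ≠ u₀ → χ u ≠ 1 := by
      intro u hu e
      refine hu (mul_inv_eq_one.1 (hnd _ fun w => ?_))
      have h1 : β w u / β w u₀ = 1 := Units.ext (DFunLike.congr_fun e w)
      have hanti : ∀ a b, β a b * β b a = 1 := fun a b => by
        have h := halt (a * b)
        simp only [map_mul, MonoidHom.mul_apply, halt, one_mul, mul_one] at h
        rwa [mul_comm] at h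
      rw [div_eq_one] at h1
      rw [map_mul, MonoidHom.mul_apply, map_inv, MonoidHom.inv_apply, mul_inv_eq_one,
        eq_inv_of_mul_eq_one_left (hanti u w), eq_inv_of_mul_eq_one_left (hanti u₀ w), h1]
    have hsum0 : ∑ u, ι (h u * ∑ w, χ u w) * (θ (s u) : Module.End (ZMod q) V) = 0 := by
      have h1 : ∀ w, ι ((((β w u₀)⁻¹ : Fˣ) : F)) *
          ∑ u, ι (h u * ((β w u : Fˣ) : F)) * (θ (s u) : Module.End (ZMod q) V) = 0 := fun w => by
        rw [hconj, mul_zero]
      simp only [Finset.mul_sum, map_sum, Finset.sum_mul]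
      rw [Finset.sum_comm]
      refine Finset.sum_eq_zero fun w _ => Eq.trans ?_ (h1 w)
      rw [Finset.mul_sum]
      refine Finset.sum_congr rfl fun u _ => ?_
      rw [← mul_assoc (ι _) (ι _), ← map_mul]
      congr 2
      change h u * ((β w u / β w u₀ : Fˣ) : F) = _
      rw [Units.val_div_eq_div_val, div_eq_mul_inv, Units.val_inv_eq_inv_val]
      ring
    rw [Finset.sum_eq_single u₀ (fun u _ hu => by
      rw [sum_hom_units_eq_zero (χ u) (hχ u hu), mul_zero, map_zero, zero_mul]) (by simp)] at hsum0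
    have h1 : ι (h u₀ * ∑ w, χ u₀ w) = 0 := by
      have := congrArg (· * ((θ (s u₀))⁻¹ : (Module.End (ZMod q) V)ˣ).val) hsum0
      simpa only [mul_assoc, Units.mul_inv, mul_one, zero_mul] using this
    have h2 : ∑ w, χ u₀ w = (Nat.card (Sect A E) : F) := by
      rw [Nat.card_eq_fintype_card]
      simp [χ]
    rw [h2] at h1
    exact (mul_eq_zero.1 (hι (h1.trans (map_zero ι).symm))).resolve_right hM
  have h3 := hli.fintype_card_le_finrank
  have hrank : Module.finrank F V = e := by
    have h := Module.natCard_eq_pow_finrank (K := F) (V := V)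
    rw [he] at h
    exact Nat.pow_right_injective Finite.one_lt_card h.symm
  rwa [Module.finrank_linearMap, hrank, ← Nat.card_eq_fintype_card] at h3

end CfsgLib.Recognition.Huppert
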