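import Mathlib
import Cfsg.Agent.Lib.PGroup.IrreducibleCyclic
import Cfsg.Agent.Lib.Recognition.Huppert.Extension

/-!
Automorphisms of prime order of finite abelian groups with a nondegenerate alternating pairing.
-/

set_option autoImplicit false

namespace CfsgLib.Recognition.Huppert

open Polynomial

/-- An irreducible isometry of a nondegenerate pairing has its inverse among its Frobenius powers. -/
theorem adjoint_inverse {r : ℕ} [Fact r.Prime] {W : Type*} [AddCommGroup W] [Module (ZMod r) W]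
    [Finite W] [Nontrivial W] (φ ψ : Module.End (ZMod r) W) (hφψ : φ * ψ = 1) (hψφ : ψ * φ = 1)
    (hirr : ∀ U : Submodule (ZMod r) W, (∀ w ∈ U, φ w ∈ U) → U = ⊥ ∨ U = ⊤)
    {C : Type*} [AddCommGroup C] (b : W →+ W →+ C) (hnd : ∀ v, (∀ u, b u v = 0) → v = 0)
    (hadj : ∀ u v, b (φ u) v = b u (ψ v)) :
    ∃ k : ℕ, ψ = φ ^ (r ^ k) := by
  classical
  haveI : Finite (Module.End (ZMod r) W) :=
    Finite.of_injective (fun f => (f : W → W)) DFunLike.coe_injective
  set R := Algebra.adjoin (ZMod r) ({φ} : Set (Module.End (ZMod r) W)) with hR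
  have hφR : φ ∈ R := Algebra.subset_adjoin rfl
  have hRc : ∀ x ∈ R, Commute φ x := fun x hx =>
    Algebra.commute_of_mem_adjoin_of_forall_mem_commute hx fun y hy =>
      (Set.mem_singleton_iff.1 hy) ▸ Commute.refl φ
  have hRcc : ∀ x ∈ R, ∀ y ∈ R, Commute y x := fun x hx y hy =>
    Algebra.commute_of_mem_adjoin_of_forall_mem_commute hx fun z hz => by
      rw [Set.mem_singleton_iff.1 hz]; exact (hRc y hy).symm
  letI : CommRing R := { (inferInstance : Ring R) with
    mul_comm := fun x y => Subtype.ext (hRcc y y.2 x x.2) }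
  have hinj : ∀ x ∈ R, x ≠ 0 → Function.Injective x := by
    intro x hx hx0
    rw [← LinearMap.ker_eq_bot]
    refine (hirr _ fun w hw => ?_).resolve_right fun h => hx0 (LinearMap.ker_eq_top.1 h)
    rw [LinearMap.mem_ker] at hw ⊢
    rw [← Module.End.mul_apply, ← (hRc x hx).eq, Module.End.mul_apply, hw, map_zero]
  haveI : Nontrivial R := ⟨⟨0, 1, fun h => by
    obtain ⟨v, hv⟩ := exists_ne (0 : W)
    exact hv (LinearMap.congr_fun (congrArg Subtype.val h) v).symm⟩⟩
  haveI : NoZeroDivisors R := ⟨fun {a c} hab => by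
    by_contra h
    rw [not_or] at h
    refine h.2 (Subtype.ext (LinearMap.ext fun v => ?_))
    refine hinj a a.2 (fun e => h.1 (Subtype.ext e)) ?_
    change (a.1 * c.1) v = a.1 0
    rw [show a.1 * c.1 = 0 from congrArg Subtype.val hab]
    simp⟩
  haveI : IsDomain R := NoZeroDivisors.to_isDomain R
  letI : Field R := (Finite.isField_of_domain R).toField
  set x : R := ⟨φ, hφR⟩ with hx
  obtain ⟨y, hy⟩ : ∃ y : R, x * y = 1 := ⟨x⁻¹, mul_inv_cancel₀ fun h => by
    have h' : φ = 0 := congrArg Subtype.val h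
    obtain ⟨v, hv⟩ := exists_ne (0 : W)
    apply hv
    rw [show v = (ψ * φ) v by rw [hψφ]; rfl, Module.End.mul_apply, h', LinearMap.zero_apply, map_zero]⟩
  have hy' : (y : Module.End (ZMod r) W) = ψ := by
    have h := congrArg Subtype.val hy
    change φ * (y : Module.End (ZMod r) W) = 1 at h
    calc (y : Module.End (ZMod r) W) = (ψ * φ) * y := by rw [hψφ, one_mul]
      _ = ψ := by rw [mul_assoc, h, mul_one]
  -- adjoints of polynomials
  have hb_smul : ∀ (c : ZMod r) u v, b (c • u) v = b u (c • v) := fun c u v => by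
    obtain ⟨n, rfl⟩ : ∃ n : ℕ, (n : ZMod r) = c := ⟨c.val, ZMod.natCast_zmod_val c⟩
    rw [Nat.cast_smul_eq_nsmul, Nat.cast_smul_eq_nsmul, map_nsmul, AddMonoidHom.nsmul_apply, map_nsmul]
  have hpow : ∀ (n : ℕ) u v, b ((φ ^ n) u) v = b u ((ψ ^ n) v) := by
    intro n
    induction n with
    | zero => simp
    | succ n ih =>
      intro u v
      rw [pow_succ', Module.End.mul_apply, hadj, ih, pow_succ, Module.End.mul_apply]
  have hpoly : ∀ (P : (ZMod r)[X]) u v, b (aeval φ P u) v = b u (aeval ψ P v) := by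
    intro P
    induction P using Polynomial.induction_on' with
    | add P Q hP hQ =>
      intro u v
      simp only [map_add, LinearMap.add_apply, AddMonoidHom.add_apply, hP, hQ]
    | monomial n c =>
      intro u v
      simp only [aeval_monomial, Module.End.mul_apply, Module.algebraMap_end_apply]
      rw [hb_smul, hpow, map_smul]
  have hint : IsIntegral (ZMod r) x := Algebra.IsIntegral.isIntegral x
  have hy0 : aeval y (minpoly (ZMod r) x) = 0 := by
    apply Subtype.ext
    rw [← Subalgebra.coe_val, ← aeval_algHom_apply, Subalgebra.coe_val, hy', ZeroMemClass.coe_zero]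
    refine LinearMap.ext fun v => hnd _ fun u => ?_
    rw [← hpoly, show aeval φ (minpoly (ZMod r) x) = 0 by
      have h := congrArg R.val (minpoly.aeval (ZMod r) x)
      rwa [← aeval_algHom_apply, map_zero] at h]
    simp
  haveI : Finite R := inferInstance
  obtain ⟨σ, hσ⟩ := (isConjRoot_of_aeval_eq_zero hint hy0).symm.exists_algEquiv
  obtain ⟨k, hk⟩ := (FiniteField.bijective_frobeniusAlgHom_pow (ZMod r) R).2 σ.toAlgHom
  refine ⟨k, ?_⟩
  have h := DFunLike.congr_fun hk x
  simp only [AlgHom.coe_pow, FiniteField.coe_frobeniusAlgHom, pow_iterate, ZMod.card] at h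
  rw [show (σ.toAlgHom : R →ₐ[ZMod r] R) x = y from hσ] at h
  exact hy'.symm.trans (congrArg Subtype.val h.symm)

/-- The same for an elementary abelian group. -/
theorem adjoint_inverse' {r : ℕ} [Fact r.Prime] {W : Type*} [AddCommGroup W] [Finite W] [Nontrivial W]
    (he : ∀ w : W, r • w = 0) (φ : W ≃+ W)
    (hirr : ∀ U : AddSubgroup W, (∀ w ∈ U, φ w ∈ U) → U = ⊥ ∨ U = ⊤)
    {C : Type*} [AddCommGroup C] (b : W →+ W →+ C) (hnd : ∀ v, (∀ u, b u v = 0) → v = 0)
    (hinv : ∀ u v, b (φ u) (φ v) = b u v) :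
    ∃ k : ℕ, ∀ w, φ^[r ^ k + 1] w = w := by
  let inst : Module (ZMod r) W := AddCommGroup.zmodModule (n := r) (G := W) he
  obtain ⟨k, hk⟩ := @adjoint_inverse r _ W _ inst _ _ (AddMonoidHom.toZModLinearMap r φ.toAddMonoidHom)
    (AddMonoidHom.toZModLinearMap r φ.symm.toAddMonoidHom)
    (LinearMap.ext fun w => φ.apply_symm_apply w) (LinearMap.ext fun w => φ.symm_apply_apply w)
    (fun U hU => (hirr U.toAddSubgroup hU).imp
      (fun h => Submodule.toAddSubgroup_injective (h.trans (Submodule.bot_toAddSubgroup).symm))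
      (fun h => Submodule.toAddSubgroup_injective (h.trans (Submodule.top_toAddSubgroup).symm)))
    C _ b hnd (fun u v => by
      change b (φ u) v = b u (φ.symm v)
      conv_lhs => rw [← φ.apply_symm_apply v]
      exact hinv u (φ.symm v))
  refine ⟨k, fun w => ?_⟩
  have h := LinearMap.congr_fun hk w
  rw [Module.End.pow_apply] at h
  rw [Function.iterate_succ_apply']
  exact (congrArg φ h.symm).trans (φ.apply_symm_apply w)

variable {M : Type*} [CommGroup M] [Finite M] {F : Type*} [Field F]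

/-- The bound on the prime order of an automorphism. -/
theorem symplectic_bound (β : M →* M →* Fˣ) (hnd : ∀ u, (∀ v, β u v = 1) → u = 1)
    (halt : ∀ u, β u u = 1) (σ : M ≃* M) (hσβ : ∀ u v, β (σ u) (σ v) = β u v) {ℓ : ℕ}
    [Fact ℓ.Prime] (hℓ2 : ℓ ≠ 2) (hcop : ¬ ℓ ∣ Nat.card M) (hσℓ : ∀ u, σ^[ℓ] u = u)
    (hσ : ∃ u, σ u ≠ u) :
    ∃ s : ℕ, s * s ≤ Nat.card M ∧ (ℓ < s ∨ ∃ r j : ℕ, r.Prime ∧ s = r ^ j ∧ ℓ ≤ s + 1 ∧
      (s * s = Nat.card M → (∀ u : M, u ^ r = 1) ∧
        ∀ U : Subgroup M, (∀ u ∈ U, σ u ∈ U) → U = ⊥ ∨ U = ⊤)) := by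
  classical
  have hanti : ∀ u v, β u v * β v u = 1 := fun u v => by
    have h := halt (u * v)
    simp only [map_mul, MonoidHom.mul_apply, halt, one_mul, mul_one] at h
    rwa [mul_comm] at h
  have hanti1 : ∀ u v, β u v = 1 → β v u = 1 := fun u v h => by
    have := hanti u v; rwa [h, one_mul] at this
  -- the moved part
  let δ : M →* M := MonoidHom.mk' (fun u => σ u * u⁻¹) fun a b => by
    rw [map_mul, mul_inv, mul_mul_mul_comm]
  have hfree : ∀ w ∈ δ.range, σ w = w → w = 1 := by
    rintro _ ⟨u, rfl⟩ hw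
    have h1 : ∀ k : ℕ, σ^[k] u = u * (δ u) ^ k := by
      intro k
      induction k with
      | zero => simp
      | succ k ih =>
        rw [Function.iterate_succ_apply', ih, map_mul, map_pow, hw, show σ u = u * δ u by
          change σ u = u * (σ u * u⁻¹); rw [mul_comm (σ u), mul_inv_cancel_left], pow_succ,
          mul_assoc, mul_comm (δ u)]
    have h2 : (δ u) ^ ℓ = 1 := by
      have := h1 ℓ
      rwa [hσℓ, left_eq_mul] at this
    by_contra hne
    exact hcop ((orderOf_eq_prime h2 hne) ▸ orderOf_dvd_natCard _)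
  obtain ⟨u₀, hu₀⟩ := hσ
  have hrange : δ.range ≠ ⊥ := fun h => hu₀ (by
    have h' : δ u₀ ∈ δ.range := ⟨u₀, rfl⟩
    rw [h, Subgroup.mem_bot] at h'
    exact mul_inv_eq_one.1 h')
  obtain ⟨r, hr, hrd⟩ := Nat.exists_prime_and_dvd fun h => hrange (Subgroup.card_eq_one.1 h)
  haveI := Fact.mk hr
  obtain ⟨u₁, hu₁⟩ := exists_prime_orderOf_dvd_card' (G := δ.range) r hrd
  have hrℓ : ℓ ≠ r := by
    rintro rfl
    exact hcop (hrd.trans (Subgroup.card_subgroup_dvd_card _))
  let T : Subgroup M := δ.range ⊓ (powMonoidHom r).ker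
  have hinvT : ∀ w ∈ T, σ w ∈ T := by
    rintro w ⟨⟨u, rfl⟩, hw⟩
    refine ⟨⟨σ u, ?_⟩, ?_⟩
    · change σ (σ u) * (σ u)⁻¹ = σ (σ u * u⁻¹)
      rw [map_mul, map_inv]
    · have hw' : δ u ^ r = 1 := hw
      change σ (δ u) ^ r = 1
      rw [← map_pow, hw', map_one]
  have hT : T ≠ ⊥ := fun h => by
    have hm : (u₁ : M) ∈ T := ⟨u₁.2, by
      change (u₁ : M) ^ r = 1
      rw [← hu₁, ← Subgroup.orderOf_coe]; exact pow_orderOf_eq_one _⟩
    rw [h, Subgroup.mem_bot] at hm
    rw [← Subgroup.orderOf_coe, hm, orderOf_one] at hu₁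
    exact hr.one_lt.ne hu₁
  obtain ⟨U, ⟨hU, hUT, hUσ⟩, hUmin⟩ := (Set.toFinite
    {U : Subgroup M | U ≠ ⊥ ∧ U ≤ T ∧ ∀ w ∈ U, σ w ∈ U}).exists_minimal ⟨T, hT, le_rfl, hinvT⟩
  have hUσ' : ∀ w ∈ U, σ.symm w ∈ U := by
    intro w hw
    have hsurj : U.map σ.toMonoidHom = U := Subgroup.eq_of_le_of_card_ge
      (fun y ⟨z, hz, e⟩ => e ▸ hUσ z hz)
      (by rw [Subgroup.card_map_of_injective σ.injective])
    obtain ⟨z, hz, e⟩ := hsurj.symm ▸ hw
    rw [← show σ z = w from e, σ.symm_apply_apply]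
    exact hz
  let σU : U ≃* U :=
    { toFun := fun w => ⟨σ w, hUσ w w.2⟩
      invFun := fun w => ⟨σ.symm w, hUσ' w w.2⟩
      left_inv := fun w => Subtype.ext (σ.symm_apply_apply _)
      right_inv := fun w => Subtype.ext (σ.apply_symm_apply _)
      map_mul' := fun a b => Subtype.ext (map_mul σ (a : M) b) }
  let φ : Additive U ≃+ Additive U := MulEquiv.toAdditive σU
  haveI : Nontrivial U := U.nontrivial_iff_ne_bot.mpr hU
  have hexp : ∀ w : Additive U, r • w = 0 := fun w => Additive.toMul.injective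
    (Subtype.ext ((hUT w.toMul.2).2 : ((w.toMul : U) : M) ^ r = 1))
  have hit : ∀ (k : ℕ) (w : Additive U), ((φ^[k] w).toMul : M) = σ^[k] ((w.toMul : U) : M) := by
    intro k
    induction k with
    | zero => intro w; rfl
    | succ k ih =>
      intro w
      rw [Function.iterate_succ_apply', Function.iterate_succ_apply', ← ih]
      rfl
  have hφℓ : ∀ w, φ^[ℓ] w = w := fun w =>
    Additive.toMul.injective (Subtype.ext ((hit ℓ w).trans (hσℓ _)))
  have hirr : ∀ W : AddSubgroup (Additive U), (∀ w ∈ W, φ w ∈ W) → W = ⊥ ∨ W = ⊤ := by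
    intro W hW
    by_cases hb : W = ⊥
    · exact Or.inl hb
    refine Or.inr ?_
    have hle : W.toSubgroup'.map U.subtype ≤ U := Subgroup.map_subtype_le _
    have hge : U ≤ W.toSubgroup'.map U.subtype := hUmin ⟨fun h => hb ?_, hle.trans hUT, ?_⟩ hle
    · rw [AddSubgroup.eq_top_iff']
      intro w
      obtain ⟨z, hz, e⟩ := hge w.toMul.2
      have : z = w.toMul := Subtype.ext e
      subst this
      exact hz
    · rw [eq_bot_iff]
      intro w hw
      have hm : ((w.toMul : U) : M) ∈ W.toSubgroup'.map U.subtype := ⟨w.toMul, hw, rfl⟩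
      rw [h, Subgroup.mem_bot] at hm
      exact (AddSubgroup.mem_bot).2 (Additive.toMul.injective (Subtype.ext hm))
    · rintro _ ⟨z, hz, rfl⟩
      exact ⟨σU z, hW (Additive.ofMul z) hz, rfl⟩
  have hne : ∃ w, φ w ≠ w := by
    obtain ⟨w, hw⟩ := U.ne_bot_iff_exists_ne_one.1 hU
    refine ⟨Additive.ofMul w, fun e => hw (Subtype.ext (hfree _ (hUT w.2).1 ?_))⟩
    exact congrArg (fun z : Additive U => ((z.toMul : U) : M)) e
  have hcard : Nat.card U = r ^ orderOf (r : ZMod ℓ) :=
    CfsgLib.PGroup.card_of_irreducible (p := ℓ) (q := r) hrℓ.symm (M := Additive U) hexp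
      φ.toAddMonoidHom hφℓ hne hirr
  -- the orthogonal subgroup
  let P : Subgroup M := ((MonoidHom.compHom' U.subtype).comp β).ker
  have hP : ∀ w, w ∈ P ↔ ∀ v ∈ U, β w v = 1 := fun w => by
    constructor
    · intro h v hv
      exact DFunLike.congr_fun (MonoidHom.mem_ker.1 h) (⟨v, hv⟩ : U)
    · intro h
      exact MonoidHom.mem_ker.2 (MonoidHom.ext fun v => h v v.2)
  have hPσ : ∀ w ∈ U ⊓ P, σ w ∈ U ⊓ P := by
    rintro w ⟨hw, hwP⟩
    refine ⟨hUσ w hw, (hP _).2 fun v hv => ?_⟩
    rw [← σ.apply_symm_apply v, hσβ]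
    exact (hP w).1 hwP _ (hUσ' v hv)
  by_cases hbot : U ⊓ P = ⊥
  · -- nondegenerate
    let b : Additive U →+ Additive U →+ Additive Fˣ :=
      AddMonoidHom.mk' (fun u => MonoidHom.toAdditive ((β ((u.toMul : U) : M)).comp U.subtype))
        fun u v => by
          refine AddMonoidHom.ext fun w => Additive.toMul.injective ?_
          change β ((u.toMul * v.toMul : U) : M) _ = β (u.toMul : M) _ * β (v.toMul : M) _
          rw [Subgroup.coe_mul, map_mul, MonoidHom.mul_apply]
    have hb : ∀ u v, (b u v).toMul = β ((u.toMul : U) : M) ((v.toMul : U) : M) := fun u v => rfl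
    obtain ⟨k, hk⟩ := adjoint_inverse' hexp φ hirr b
      (fun v hv => by
        have hm : ((v.toMul : U) : M) ∈ U ⊓ P := ⟨v.toMul.2, (hP _).2 fun w hw => by
          have h := congrArg Additive.toMul (hv (Additive.ofMul ⟨w, hw⟩))
          rw [hb] at h
          exact hanti1 _ _ h⟩
        rw [hbot, Subgroup.mem_bot] at hm
        exact Additive.toMul.injective (Subtype.ext hm))
      (fun u v => Additive.toMul.injective (hσβ _ _))
    set i := orderOf (r : ZMod ℓ) with hi
    have hdvd : ℓ ∣ r ^ k + 1 := by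
      obtain ⟨w, hw⟩ := hne
      have hper : Function.minimalPeriod φ w = ℓ := by
        rcases (Nat.dvd_prime (Fact.out : ℓ.Prime)).1
          (Function.IsPeriodicPt.minimalPeriod_dvd (hφℓ w)) with h | h
        · exact absurd (Function.minimalPeriod_eq_one_iff_isFixedPt.1 h) hw
        · exact h
      exact hper ▸ Function.IsPeriodicPt.minimalPeriod_dvd (hk w)
    have hneg : (r : ZMod ℓ) ^ k = -1 := by
      rw [eq_neg_iff_add_eq_zero]
      have := (ZMod.natCast_eq_zero_iff _ _).2 hdvd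
      push_cast at this
      exact this
    have h1ne : (-1 : ZMod ℓ) ≠ 1 := by
      haveI : Fact (2 < ℓ) := ⟨lt_of_le_of_ne (Fact.out : ℓ.Prime).two_le (Ne.symm hℓ2)⟩
      exact ZMod.neg_one_ne_one
    have hi2 : i ∣ 2 * k := orderOf_dvd_of_pow_eq_one (by rw [mul_comm, pow_mul, hneg, neg_one_sq])
    have heven : Even i := by
      by_contra hodd
      rw [Nat.not_even_iff_odd] at hodd
      have hik : i ∣ k := (hodd.coprime_two_right).dvd_of_dvd_mul_left hi2
      exact h1ne (hneg.symm.trans (orderOf_dvd_iff_pow_eq_one.1 hik))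
    obtain ⟨j, hj⟩ := heven
    have hipos : 0 < i := by
      rcases Nat.eq_zero_or_pos i with h | h
      · exfalso
        rw [h, pow_zero, Subgroup.card_eq_one] at hcard
        exact hU hcard
      · exact h
    have hjl : ℓ ∣ r ^ j + 1 := by
      have h1 : ((r : ZMod ℓ) ^ j) * ((r : ZMod ℓ) ^ j) = 1 := by
        rw [← pow_add, ← hj, hi, pow_orderOf_eq_one]
      rcases mul_self_eq_one_iff.1 h1 with h | h
      · exfalso
        have := Nat.le_of_dvd (by omega) (orderOf_dvd_of_pow_eq_one h)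
        omega
      · rw [← ZMod.natCast_eq_zero_iff]
        push_cast
        rw [h]; simp
    have hss : r ^ j * r ^ j = Nat.card U := by rw [hcard, ← pow_add, ← hj]
    refine ⟨r ^ j, hss ▸ Subgroup.card_le_card_group U, Or.inr ⟨r, j, hr, rfl,
      Nat.le_of_dvd (by positivity) hjl, fun h => ?_⟩⟩
    have hUtop : U = ⊤ := Subgroup.eq_top_of_card_eq U (hss.symm.trans h)
    refine ⟨fun u => (hUT (hUtop ▸ Subgroup.mem_top u)).2, fun W hW => ?_⟩
    by_cases hb' : W = ⊥
    · exact Or.inl hb'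
    refine Or.inr (top_le_iff.1 (hUtop ▸ hUmin ⟨hb', ?_, hW⟩ (hUtop ▸ le_top)))
    exact le_trans (hUtop ▸ le_top : W ≤ U) hUT
  · -- totally isotropic
    have hUP : U ≤ P := (hUmin ⟨hbot, inf_le_left.trans hUT, hPσ⟩ inf_le_left).trans inf_le_right
    have hlift : ∀ u : U, P ≤ (β (u : M)).ker := fun u w hw =>
      MonoidHom.mem_ker.2 (hanti1 _ _ ((hP w).1 hw u u.2))
    let L : U → (M ⧸ P →* Fˣ) := fun u => QuotientGroup.lift P (β (u : M)) (hlift u)
    have hL : Function.Injective L := by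
      intro u v e
      have h : ∀ w, β (u : M) w = β (v : M) w := fun w =>
        DFunLike.congr_fun e (QuotientGroup.mk' P w)
      refine Subtype.ext (inv_mul_eq_one.1 (hnd _ fun w => ?_))
      rw [map_mul, map_inv, MonoidHom.mul_apply, MonoidHom.inv_apply, h, inv_mul_cancel]
    obtain ⟨hfin, hle⟩ := card_hom_le (M := M ⧸ P) (F := F)
    haveI := hfin
    refine ⟨Nat.card U, ?_, Or.inl ?_⟩
    · calc Nat.card U * Nat.card U ≤ Nat.card (M ⧸ P) * Nat.card P :=
            Nat.mul_le_mul ((Nat.card_le_card_of_injective L hL).trans hle) (Subgroup.card_le_of_le hUP)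
        _ = Nat.card M := (Subgroup.card_eq_card_quotient_mul_card_subgroup P).symm
    · have hi : ℓ ∣ Nat.card U - 1 := by
        rw [hcard, ← ZMod.natCast_eq_zero_iff, Nat.cast_sub (Nat.one_le_pow _ _ hr.pos), Nat.cast_pow,
          pow_orderOf_eq_one, Nat.cast_one, sub_self]
      have h1 : 1 < Nat.card U := Finite.one_lt_card
      have := Nat.le_of_dvd (by omega) hi
      omega

end CfsgLib.Recognition.Huppert
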