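import Mathlib
import Cfsg.Agent.Lib.Recognition.Huppert.Bound
import Cfsg.Agent.Lib.Recognition.Huppert.Pairing

/-!
The kernel of the action on the section, the prime bound, and the numerical lemma.
-/

set_option autoImplicit false

namespace CfsgLib.Recognition.Huppert

open scoped commutatorElement IsMulCommutative

variable {G : Type*} [Group G] [Finite G] (A E : Subgroup G) [A.Normal] [E.Normal]
  {F : Type*} [Field F]

/-- An element of the centraliser acting trivially on the section lies in the extension. -/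
theorem mem_of_act_eq_one (f : A →* Fˣ) (hf : Function.Injective f) (hAE : A ≤ E)
    (hE : E ≤ Subgroup.centralizer (A : Set G)) (hc : ⁅E, E⁆ ≤ A)
    (hCE : ∀ g ∈ Subgroup.centralizer (A : Set G), (∀ y ∈ E, g * y = y * g) → g ∈ A)
    {g : G} (hg : g ∈ Subgroup.centralizer (A : Set G)) (hg1 : act A E g = 1) : g ∈ E := by
  classical
  set K : Subgroup G := Subgroup.centralizer (A : Set G) ⊓ (act A E).ker with hK
  have hm : ∀ k ∈ K, ∀ y ∈ E, ⁅k, y⁆ ∈ A := fun k hk => (mem_ker_act A E k).1 hk.2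
  have hcen : ∀ a ∈ A, ∀ k ∈ K, a * k = k * a := fun a ha k hk =>
    Subgroup.mem_centralizer_iff.1 hk.1 a ha
  have hEK : E ≤ K := le_inf hE fun y hy => (mem_ker_act A E y).2 fun z hz =>
    hc (Subgroup.commutator_mem_commutator hy hz)
  have hbil2 : ∀ k ∈ K, ∀ y ∈ E, ∀ z ∈ E, ⁅k, y * z⁆ = ⁅k, y⁆ * ⁅k, z⁆ := by
    intro k hk y hy z hz
    have h : y * ⁅k, z⁆ * y⁻¹ = ⁅k, z⁆ := by
      rw [← hcen _ (hm k hk z hz) y (hEK hy), mul_inv_cancel_right]
    calc ⁅k, y * z⁆ = ⁅k, y⁆ * (y * ⁅k, z⁆ * y⁻¹) := by simp only [commutatorElement_def]; group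
      _ = _ := by rw [h]
  have hbil1 : ∀ k ∈ K, ∀ l ∈ K, ∀ z ∈ E, ⁅k * l, z⁆ = ⁅k, z⁆ * ⁅l, z⁆ := by
    intro k hk l hl z hz
    have h : k * ⁅l, z⁆ * k⁻¹ = ⁅l, z⁆ := by
      rw [← hcen _ (hm l hl z hz) k hk, mul_inv_cancel_right]
    calc ⁅k * l, z⁆ = k * ⁅l, z⁆ * k⁻¹ * ⁅k, z⁆ := by simp only [commutatorElement_def]; group
      _ = ⁅l, z⁆ * ⁅k, z⁆ := by rw [h]
      _ = _ := hcen _ (hm l hl z hz) _ (hEK (hAE (hm k hk z hz)))
  choose s hs hs' using fun u : Sect A E => u.2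
  have hcongr : ∀ k ∈ K, ∀ y ∈ E, ∀ z ∈ E, QuotientGroup.mk' A y = QuotientGroup.mk' A z →
      ⁅k, y⁆ = ⁅k, z⁆ := by
    intro k hk y hy z hz e
    have ha : y⁻¹ * z ∈ A := QuotientGroup.eq.1 e
    rw [← mul_inv_cancel_left y z, hbil2 k hk y hy _ (hAE ha),
      commutatorElement_eq_one_iff_mul_comm.2 (hcen _ ha k hk).symm, mul_one]
  let φ : K → (Sect A E →* Fˣ) := fun k =>
    MonoidHom.mk' (fun u => f ⟨⁅(k : G), s u⁆, hm k k.2 _ (hs u)⟩) fun u v => by
      rw [← map_mul]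
      refine congrArg f (Subtype.ext ?_)
      change ⁅(k : G), s (u * v)⁆ = ⁅(k : G), s u⁆ * ⁅(k : G), s v⁆
      rw [← hbil2 k k.2 _ (hs u) _ (hs v)]
      exact hcongr k k.2 _ (hs _) _ (mul_mem (hs u) (hs v)) (by rw [hs', map_mul, hs', hs', Subgroup.coe_mul])
  let Φ : K →* (Sect A E →* Fˣ) := MonoidHom.mk' φ fun k l => MonoidHom.ext fun u => by
    refine (congrArg f (Subtype.ext ?_)).trans (map_mul f _ _)
    exact hbil1 k k.2 l l.2 _ (hs u)
  have hker : Φ.ker ≤ A.subgroupOf K := by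
    intro k hk
    refine hCE k k.2.1 fun y hy => ?_
    have h := DFunLike.congr_fun (MonoidHom.mem_ker.1 hk) ⟨_, y, hy, rfl⟩
    rw [MonoidHom.one_apply, ← map_one f] at h
    have h' := congrArg Subtype.val (hf h)
    refine commutatorElement_eq_one_iff_mul_comm.1 ((hcongr k k.2 y hy _ (hs _) ?_).trans h')
    exact (hs' ⟨_, y, hy, rfl⟩).symm
  haveI := sect_isMulCommutative A E hc
  obtain ⟨hfin, hle⟩ := card_hom_le (M := Sect A E) (F := F)
  haveI := hfin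
  have hcard : Nat.card K ≤ Nat.card E := by
    rw [card_eq_sect A E hAE, Subgroup.card_eq_card_quotient_mul_card_subgroup Φ.ker,
      mul_comm (Nat.card A),
      Nat.card_congr (QuotientGroup.quotientKerEquivRange Φ).toEquiv]
    refine Nat.mul_le_mul ((Subgroup.card_le_card_group _).trans hle) ?_
    refine (Subgroup.card_le_of_le hker).trans ?_
    rw [Nat.card_congr (Subgroup.subgroupOfEquivOfLe (hAE.trans hEK)).toEquiv]
  rw [Subgroup.eq_of_le_of_card_ge hEK hcard]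
  exact ⟨hg, MonoidHom.mem_ker.2 hg1⟩

/-- The bound on prime orders outside the extension. -/
theorem prime_bound (f : A →* Fˣ) (hf : Function.Injective f) (hAE : A ≤ E)
    (hE : E ≤ Subgroup.centralizer (A : Set G)) (hc : ⁅E, E⁆ ≤ A)
    (hCE : ∀ g ∈ Subgroup.centralizer (A : Set G), (∀ y ∈ E, g * y = y * g) → g ∈ A)
    (β : Sect A E →* Sect A E →* Fˣ) (halt : ∀ u, β u u = 1)
    (hnd : ∀ u, (∀ v, β u v = 1) → u = 1)
    (hinv : ∀ g ∈ Subgroup.centralizer (A : Set G), ∀ u v, β (act A E g u) (act A E g v) = β u v)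
    {ℓ : ℕ} [Fact ℓ.Prime] (hℓ2 : ℓ ≠ 2) (hℓA : ¬ ℓ ∣ Nat.card A) (hℓM : ¬ ℓ ∣ Nat.card (Sect A E))
    {x : G} (hxK : x ∈ Subgroup.centralizer (A : Set G)) (hx : orderOf x = ℓ) :
    ∃ s : ℕ, s * s ≤ Nat.card (Sect A E) ∧ (ℓ < s ∨ ∃ r j : ℕ, r.Prime ∧ s = r ^ j ∧ ℓ ≤ s + 1 ∧
      (s * s = Nat.card (Sect A E) → (∀ u : Sect A E, u ^ r = 1) ∧
        ∀ U : Subgroup (Sect A E), (∀ u ∈ U, act A E x u ∈ U) → U = ⊥ ∨ U = ⊤)) := by
  haveI := sect_isMulCommutative A E hc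
  refine symplectic_bound β hnd halt (act A E x) (hinv x hxK) hℓ2 hℓM (fun u => ?_) ?_
  · have h : ∀ k : ℕ, (act A E x)^[k] u = act A E (x ^ k) u := by
      intro k
      induction k with
      | zero => simp
      | succ k ih => rw [Function.iterate_succ_apply', ih, pow_succ', map_mul, MulAut.mul_apply]
    rw [h, ← hx, pow_orderOf_eq_one, map_one, MulAut.one_apply]
  · by_contra h
    simp only [not_exists, not_not] at h
    have hxE : x ∈ E := mem_of_act_eq_one A E f hf hAE hE hc hCE hxK (MulEquiv.ext h)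
    have hd : ℓ ∣ Nat.card E := hx ▸ Subgroup.orderOf_dvd_natCard E hxE
    rw [card_eq_sect A E hAE] at hd
    exact ((Fact.out : ℓ.Prime).dvd_mul.1 hd).elim hℓA hℓM

omit [Finite G] in
/-- The numerical lemma. -/
theorem eq_three_four {q n j : ℕ} (hq : q.Prime) (hq2 : q ≠ 2) (hn : n = 2 ^ j) (hn3 : 3 ≤ n)
    (hprim : ∀ p : ℕ, p.Prime → p ∣ q ^ n - 1 → (∀ k, 0 < k → k < n → ¬ p ∣ q ^ k - 1) → p = n + 1)
    (hsq : ¬ (n + 1) * (n + 1) ∣ q ^ n - 1) : q = 3 ∧ n = 4 := by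
  obtain ⟨i, rfl⟩ : ∃ i, j = i + 1 := Nat.exists_eq_succ_of_ne_zero (by rintro rfl; simp at hn; omega)
  set h := 2 ^ i with hh
  have hn2 : n = 2 * h := by rw [hn, hh, pow_succ']
  have hq3 : 3 ≤ q := by have := hq.two_le; omega
  have hdvd : q ^ h + 1 ∣ q ^ n - 1 := by
    have h1 : q ^ n - 1 = (q ^ h + 1) * (q ^ h - 1) := by
      rw [← Nat.sq_sub_sq (q ^ h) 1, ← pow_mul, one_pow, mul_comm h 2, ← hn2]
    rw [h1]; exact dvd_mul_right _ _
  have hodd : Odd q := hq.odd_of_ne_two hq2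
  have hheven : Even h := by
    rw [hh]; refine (Nat.even_pow).2 ⟨even_two, ?_⟩
    rintro rfl
    simp at hh
    omega
  obtain ⟨R, hR, hRodd⟩ : ∃ R, q ^ h + 1 = 2 * R ∧ ¬ 2 ∣ R := by
    obtain ⟨t, ht⟩ := hheven
    obtain ⟨w, hw⟩ := hodd.pow (n := t)
    refine ⟨2 * (w * w + w) + 1, ?_, by omega⟩
    rw [ht, pow_add, hw]; ring
  have hRp : ∀ p : ℕ, p.Prime → p ∣ R → p = n + 1 := by
    intro p hp hpR
    haveI := Fact.mk hp
    have hpQ : p ∣ q ^ h + 1 := hR ▸ hpR.mul_left 2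
    have hp2 : p ≠ 2 := fun e => hRodd (e ▸ hpR)
    refine hprim p hp (hpQ.trans hdvd) fun k hk0 hkn hpk => ?_
    have hneg : (q : ZMod p) ^ h = -1 := by
      have := (ZMod.natCast_eq_zero_iff _ _).2 hpQ
      push_cast at this
      exact eq_neg_of_add_eq_zero_left this
    have hk1 : (q : ZMod p) ^ k = 1 := by
      have := (ZMod.natCast_eq_zero_iff _ _).2 hpk
      rw [Nat.cast_sub (Nat.one_le_pow _ _ hq.pos), Nat.cast_one, sub_eq_zero, Nat.cast_pow] at this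
      exact this
    have hne : (-1 : ZMod p) ≠ 1 := by
      haveI : Fact (2 < p) := ⟨lt_of_le_of_ne hp.two_le (Ne.symm hp2)⟩
      exact ZMod.neg_one_ne_one
    have hd : orderOf (q : ZMod p) = n := by
      rw [hn]
      refine orderOf_eq_prime_pow (by rw [← hh, hneg]; exact hne) ?_
      rw [pow_succ, pow_mul, ← hh, hneg, neg_one_sq]
    have := Nat.le_of_dvd hk0 (hd ▸ orderOf_dvd_of_pow_eq_one hk1)
    omega
  have hR0 : R ≠ 0 := fun e => hRodd (e ▸ dvd_zero 2)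
  obtain ⟨b, hb⟩ : ∃ b, R = (n + 1) ^ b :=
    ⟨_, Nat.eq_prime_pow_of_unique_prime_dvd hR0 (fun {p} hp hpR => hRp p hp hpR)⟩
  have hb1 : b ≤ 1 := by
    by_contra hb2
    refine hsq (dvd_trans ?_ hdvd)
    rw [hR, hb]
    exact dvd_mul_of_dvd_right (by rw [← pow_two]; exact pow_dvd_pow _ (by omega)) 2
  have hle : R ≤ n + 1 := hb.trans_le ((pow_le_pow_right₀ (by omega) hb1).trans (pow_one _).le)
  have hbig : ∀ k, 3 ≤ k → 4 * k + 1 < 3 ^ k := by
    intro k hk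
    induction k, hk using Nat.le_induction with
    | base => norm_num
    | succ k hk ih => rw [pow_succ]; omega
  have h3h : 3 ^ h ≤ q ^ h := Nat.pow_le_pow_left hq3 h
  have hh2 : h = 2 := by
    rcases Nat.lt_or_ge h 3 with hlt | hge
    · omega
    · have := hbig h hge; omega
  refine ⟨?_, by omega⟩
  rw [hh2] at hR
  by_contra hq'
  have : 4 * 4 ≤ q * q := Nat.mul_le_mul (by omega) (by omega)
  rw [pow_two] at hR
  omega

end CfsgLib.Recognition.Huppert
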