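import Mathlib
import Cfsg.Agent.S2904
import Cfsg.Agent.Lib.Recognition.ExtremelyPrimitive
import Cfsg.Agent.Lib.Recognition.Huppert.Kernel

/-!
Solvable transitive linear groups.
-/

set_option autoImplicit false

namespace CfsgLib.Recognition.Huppert

open scoped IsMulCommutative commutatorElement

variable {q : ℕ} [Fact q.Prime] {V : Type*} [AddCommGroup V] [Module (ZMod q) V] [Finite V]
  [Nontrivial V] {G : Type*} [Group G] [Finite G] (θ : G →* (Module.End (ZMod q) V)ˣ)

/-- A noncyclic group of order at most four with a nondegenerate alternating pairing. -/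
theorem klein_of_pairing {M : Type*} [Group M] [Finite M] {F : Type*} [Field F] (β : M →* M →* Fˣ)
    (halt : ∀ u, β u u = 1) (hnd : ∀ u, (∀ v, β u v = 1) → u = 1) (h1 : 1 < Nat.card M)
    (h4 : Nat.card M ≤ 4) : Nat.card M = 4 ∧ (∀ u : M, u ^ 2 = 1) ∧ Nat.card (MulAut M) ∣ 6 := by
  classical
  have hnc : ¬ IsCyclic M := by
    intro hc
    obtain ⟨g, hg⟩ := hc.exists_generator
    haveI : Nontrivial M := Finite.one_lt_card_iff_nontrivial.1 h1
    obtain ⟨u, hu⟩ := exists_ne (1 : M)
    refine hu (hnd u fun v => ?_)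
    obtain ⟨a, rfl⟩ := hg u
    obtain ⟨b, rfl⟩ := hg v
    simp [halt]
  have hc4 : Nat.card M = 4 := by
    by_contra h
    haveI : Fact (Nat.card M).Prime :=
      ⟨by rcases (by omega : Nat.card M = 2 ∨ Nat.card M = 3) with e | e <;> rw [e] <;> norm_num⟩
    exact hnc (isCyclic_of_prime_card (p := Nat.card M) rfl)
  refine ⟨hc4, fun u => ?_, ?_⟩
  · have hd : orderOf u ∣ 2 ^ 2 := (orderOf_dvd_natCard u).trans (by rw [hc4]; norm_num)
    obtain ⟨i, hi, hu⟩ := (Nat.dvd_prime_pow Nat.prime_two).1 hd
    rcases (by omega : i ≤ 1 ∨ i = 2) with h | rfl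
    · exact orderOf_dvd_iff_pow_eq_one.1 (hu ▸ (pow_dvd_pow 2 h).trans (by norm_num))
    · exact absurd (isCyclic_of_orderOf_eq_card u (by rw [hu, hc4]; norm_num)) hnc
  · haveI := Fintype.ofFinite M
    let ψ : MulAut M →* Equiv.Perm {u : M // u ≠ 1} :=
      { toFun := fun σ => (σ.toEquiv).subtypeEquiv fun a => (EmbeddingLike.map_ne_one_iff (f := σ)).symm
        map_one' := Equiv.ext fun u => rfl
        map_mul' := fun σ τ => Equiv.ext fun u => rfl }
    have hψ : Function.Injective ψ := by
      intro σ τ e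
      refine MulEquiv.ext fun u => ?_
      by_cases hu : u = 1
      · rw [hu, map_one, map_one]
      · exact congrArg Subtype.val (Equiv.congr_fun e ⟨u, hu⟩)
    have h := Subgroup.card_dvd_of_injective ψ hψ
    rw [Nat.card_perm] at h
    have h3 : Nat.card {u : M // u ≠ 1} = 3 := by
      rw [Nat.card_eq_fintype_card, Fintype.card_subtype_compl (fun u : M => u = 1), Fintype.card_subtype_eq,
        ← Nat.card_eq_fintype_card, hc4]
    rw [h3] at h
    exact h

omit [Fact q.Prime] in
/-- The small primes. -/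
theorem mem_five (hq : q.Prime) (hq2 : q ≠ 2) (h : q + 1 ∣ 24) : q ∈ ({3, 5, 7, 11, 23} : Set ℕ) := by
  have h1 := Nat.le_of_dvd (by norm_num) h
  have h23 : q ≤ 23 := by omega
  revert hq hq2 h
  interval_cases q <;> norm_num

/-- The two alternatives. -/
theorem dichotomy (hsol : Group.IsSolvable G) (hinj : Function.Injective θ)
    (htr : ∀ v w : V, v ≠ 0 → w ≠ 0 → ∃ g, (θ g : Module.End (ZMod q) V) v = w) :
    ((∃ (F : Type) (_ : Field F) (_ : Fintype F) (e : V ≃+ F), ∀ g : G, ∃ (a : F) (σ : F ≃+* F),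
        ∀ v : V, e ((θ g : Module.End (ZMod q) V) v) = a * σ (e v)) ∧
      (q ≠ 2 → ∃ M : Subgroup G, M.Normal ∧ M.index = 2)) ∨
    ∃ (A E : Subgroup G), A.Normal ∧ E.Normal ∧ IsCyclic A ∧ A ≤ Subgroup.center G ∧ A ≤ E ∧
      ¬ E ≤ A ∧ Nat.card A ∣ q - 1 ∧ ⁅E, E⁆ ≤ A ∧ (∀ x ∈ E, x ^ 2 ∈ A) ∧
      (∀ x ∈ E, (∀ y ∈ E, x * y = y * x) → x ∈ A) ∧
      (∀ B : Subgroup G, B.Normal → A ≤ B → (∀ a ∈ B, ∀ b ∈ B, a * b = b * a) → B ≤ A) ∧
      (∀ g : G, (∀ y ∈ E, ⁅g, y⁆ ∈ A) → g ∈ E) ∧
      ((Nat.card V = q ^ 2 ∧ A.relIndex E = 4 ∧ E.index ∣ 6 ∧ q ∈ ({3, 5, 7, 11, 23} : Set ℕ)) ∨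
        (Nat.card V = 81 ∧ q = 3 ∧ A.relIndex E = 16)) := by
  classical
  obtain ⟨A, hAn, hAab, hAmax⟩ := exists_maximal_abelian G
  haveI := hAn
  obtain ⟨F, hF, hFfin, hFalg, ι, hι, hrange⟩ := exists_field θ htr A hAab
  letI : Fintype F := Fintype.ofFinite F
  obtain ⟨c, hc, hker⟩ := exists_galois θ A ι hι hrange
  obtain ⟨f, hf⟩ := exists_character θ ι hι A hrange
  have hfinj : Function.Injective f := fun a b e => Subtype.ext (hinj (Units.ext (by
    rw [← hf, ← hf, e])))
  haveI hAcyc : IsCyclic A := isCyclic_of_injective f hfinj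
  have hcK : c.ker = Subgroup.centralizer (A : Set G) := by
    ext g
    rw [MonoidHom.mem_ker, hker, Subgroup.mem_centralizer_iff]
    refine forall₂_congr fun a _ => ?_
    rw [← map_mul, ← map_mul, hinj.eq_iff]
    exact eq_comm
  have hAK : A ≤ Subgroup.centralizer (A : Set G) := fun a ha =>
    Subgroup.mem_centralizer_iff.2 fun b hb => hAab b hb a ha
  -- the numbers
  obtain ⟨m, hm, hmF⟩ : ∃ m, 0 < m ∧ Nat.card F = q ^ m :=
    ⟨Module.finrank (ZMod q) F, Module.finrank_pos, by
      rw [Module.natCard_eq_pow_finrank (K := ZMod q) (V := F), Nat.card_zmod]⟩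
  have hidx : (Subgroup.centralizer (A : Set G)).index ∣ m := by
    rw [← hcK, Subgroup.index_ker]
    refine (Subgroup.card_subgroup_dvd_card c.range).trans ?_
    have hfr : Nat.card (F ≃ₐ[ZMod q] F) = Module.finrank (ZMod q) F :=
      IsGalois.card_aut_eq_finrank (ZMod q) F
    have h2 : Module.finrank (ZMod q) F = m := by
      have h3 := Module.natCard_eq_pow_finrank (K := ZMod q) (V := F)
      rw [Nat.card_zmod, hmF] at h3
      exact (Nat.pow_right_injective (Fact.out : q.Prime).two_le h3).symm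
    rw [hfr, h2]
  letI : Module F V := Module.compHom V ι.toRingHom
  haveI : Module.Finite F V := Module.Finite.of_finite
  set e := Module.finrank F V with he'
  have he : Nat.card V = Nat.card F ^ e := Module.natCard_eq_pow_finrank
  have he0 : 0 < e := by
    rcases Nat.eq_zero_or_pos e with h | h
    · rw [h, pow_zero] at he
      exact absurd he (Finite.one_lt_card (α := V)).ne'
    · exact h
  have hAdvd : Nat.card A ∣ q ^ m - 1 := by
    rw [← hmF, Nat.card_eq_fintype_card (α := F), ← Fintype.card_units, ← Nat.card_eq_fintype_card (α := Fˣ)]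
    exact Subgroup.card_dvd_of_injective f hfinj
  have horb : q ^ (m * e) - 1 ∣ Nat.card G := by
    rw [pow_mul, ← hmF, ← he]; exact card_nonzero_dvd θ htr
  rcases (by omega : e = 1 ∨ 2 ≤ e) with he1 | he2
  · -- one-dimensional
    have hcardV : Nat.card V = Nat.card F := by rw [he, he1, pow_one]
    refine Or.inl ⟨?_, fun hq2 => ?_⟩
    · obtain ⟨e', he''⟩ := semilinear_of_card_eq θ ι hι hcardV c hc
      exact ⟨F, hF, inferInstance, e', he''⟩
    have hKA : Subgroup.centralizer (A : Set G) ≤ A := by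
      refine hAmax _ inferInstance hAK fun a ha b hb => hinj (Units.ext (LinearMap.ext fun v => ?_))
      obtain ⟨v₀, hv₀⟩ := exists_ne (0 : V)
      obtain ⟨e', -⟩ := semilinear_of_card_eq θ ι hι hcardV c hc
      -- elements of the centraliser are scalars
      have hscal : ∀ g ∈ Subgroup.centralizer (A : Set G), ∃ x : F,
          (θ g : Module.End (ZMod q) V) = ι x := by
        intro g hg
        have hsurj : Function.Bijective (fun x : F => ι x v₀) := by
          refine (Nat.bijective_iff_injective_and_card _).2 ⟨fun x y hxy => ?_, hcardV.symm⟩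
          by_contra hne
          have h0 : ι (x - y) v₀ = 0 := by
            rw [map_sub, LinearMap.sub_apply]; exact sub_eq_zero.2 hxy
          refine hv₀ ?_
          rw [← Module.End.one_apply (R := ZMod q) v₀, ← map_one ι, ← inv_mul_cancel₀ (sub_ne_zero.2 hne),
            map_mul, Module.End.mul_apply, h0, map_zero]
        obtain ⟨x, hx⟩ := hsurj.2 ((θ g : Module.End (ZMod q) V) v₀)
        refine ⟨x, LinearMap.ext fun w => ?_⟩
        obtain ⟨y, rfl⟩ := hsurj.2 w
        change (θ g : Module.End (ZMod q) V) (ι y v₀) = ι x (ι y v₀)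
        rw [← Module.End.mul_apply, (commute_of_centralizes θ hg (hrange ▸ ⟨y, rfl⟩)).eq,
          Module.End.mul_apply, ← show ι x v₀ = _ from hx, ← Module.End.mul_apply, ← Module.End.mul_apply,
          ← map_mul, ← map_mul, mul_comm]
      obtain ⟨x, hx⟩ := hscal a ha
      obtain ⟨y, hy⟩ := hscal b hb
      rw [map_mul, map_mul, Units.val_mul, Units.val_mul, hx, hy, ← map_mul, ← map_mul, mul_comm]
    refine exists_index_two c ?_ ?_
    · exact isCyclic_of_injective (Subgroup.inclusion (hcK.le.trans hKA)) (Subgroup.inclusion_injective _)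
    · refine dvd_trans (even_iff_two_dvd.1 ?_) horb
      exact Nat.Odd.sub_odd ((Fact.out : q.Prime).odd_of_ne_two hq2).pow odd_one
  · refine Or.inr ?_
    have hCA : ¬ Subgroup.centralizer (A : Set G) ≤ A := by
      intro hle
      have h1 : Nat.card G ∣ (q ^ m - 1) * m := by
        rw [← (Subgroup.centralizer (A : Set G)).card_mul_index, le_antisymm hle hAK]
        refine mul_dvd_mul hAdvd ?_
        rw [← le_antisymm hle hAK]; exact hidx
      have hpos : 0 < q ^ m - 1 := by
        have := one_lt_pow₀ (Fact.out : q.Prime).one_lt hm.ne'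
        omega
      have h3 : q ^ (m * 2) - 1 ≤ (q ^ m - 1) * m :=
        le_trans (Nat.sub_le_sub_right (Nat.pow_le_pow_right (Fact.out : q.Prime).pos
          (Nat.mul_le_mul_left m he2)) 1) (Nat.le_of_dvd (Nat.mul_pos hpos hm) (horb.trans h1))
      rw [pow_mul, show (q ^ m) ^ 2 - 1 = (q ^ m - 1) * (q ^ m + 1) by
        rw [mul_comm, ← Nat.sq_sub_sq, one_pow]] at h3
      have := Nat.le_of_mul_le_mul_left h3 hpos
      have := Nat.lt_pow_self (Fact.out : q.Prime).one_lt (n := m)
      omega
    obtain ⟨E, hEn, hAE, hEK, hEA, hEc, hrad, hCE⟩ := exists_extension hsol A hAab hAmax hCA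
    haveI := hEn
    obtain ⟨β, hβ, halt, hnd, hinv⟩ := exists_pairing A E f hfinj hAE hEK hEc hrad
    have hM1 : 1 < Nat.card (Sect A E) := by
      by_contra h
      refine hEA ?_
      rw [card_sect A E hAE] at h
      have h1 : A.relIndex E = 1 := by
        have : A.relIndex E ≠ 0 := Subgroup.index_ne_zero_of_finite
        omega
      exact Subgroup.relIndex_eq_one.1 h1
    have hprimes : ∀ r : ℕ, r.Prime → r ∣ Nat.card (Sect A E) → r ∣ Nat.card A := fun r hr hd => by
      haveI := Fact.mk hr
      refine prime_dvd_of_pairing f β hnd (fun u v => ?_) hd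
      obtain ⟨x, hx, hxu⟩ := u.2
      obtain ⟨y, hy, hyv⟩ := v.2
      rw [show u = ⟨_, x, hx, rfl⟩ from Subtype.ext hxu.symm,
        show v = ⟨_, y, hy, rfl⟩ from Subtype.ext hyv.symm, hβ x hx y hy]
      exact ⟨_, rfl⟩
    have hqA : ¬ q ∣ Nat.card A := fun h => by
      have h1 : q ∣ q ^ m - 1 := h.trans hAdvd
      have h2 := Nat.dvd_sub (dvd_pow_self q hm.ne') h1
      rw [Nat.sub_sub_self (Nat.one_le_pow _ _ (Fact.out : q.Prime).pos)] at h2
      exact (Fact.out : q.Prime).one_lt.ne' (Nat.dvd_one.1 h2)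
    have hMF : (Nat.card (Sect A E) : F) ≠ 0 := by
      haveI : CharP F q := charP_of_injective_algebraMap' (ZMod q) q
      rw [Ne, CharP.cast_eq_zero_iff F q]
      exact fun h => hqA (hprimes q Fact.out h)
    have hle : Nat.card (Sect A E) ≤ e * e := card_sect_le θ ι hι A E hrange hEK hEc f hf β hβ halt hnd hMF he
    set n := m * e with hn
    have hn2 : 2 ≤ n := he2.trans (Nat.le_mul_of_pos_left e hm)
    -- a large prime forces the exceptional parameters
    have big : ∀ ℓ : ℕ, ℓ.Prime → ℓ ∣ q ^ n - 1 → n + 1 ≤ ℓ → ¬ ℓ ∣ Nat.card A →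
        m = 1 ∧ ℓ = n + 1 ∧ (∃ j, n = 2 ^ j) ∧ Nat.card (Sect A E) = n * n ∧ (∀ u : Sect A E, u ^ 2 = 1) ∧
        ∀ x ∈ Subgroup.centralizer (A : Set G), orderOf x = ℓ →
          ∀ U : Subgroup (Sect A E), (∀ u ∈ U, act A E x u ∈ U) → U = ⊥ ∨ U = ⊤ := by
      intro ℓ hℓ hdvd hℓn hℓA
      haveI := Fact.mk hℓ
      have hmn : m ≤ n := Nat.le_mul_of_pos_right m he0
      have hℓM : ¬ ℓ ∣ Nat.card (Sect A E) := fun h => hℓA (hprimes ℓ hℓ h)
      have hℓK : ℓ ∣ Nat.card (Subgroup.centralizer (A : Set G)) := by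
        have h := (hdvd.trans horb)
        rw [← (Subgroup.centralizer (A : Set G)).card_mul_index] at h
        refine (hℓ.dvd_mul.1 h).resolve_right fun h' => ?_
        have := Nat.le_of_dvd hm (h'.trans hidx)
        omega
      have main : ∀ x ∈ Subgroup.centralizer (A : Set G), orderOf x = ℓ →
          m = 1 ∧ ℓ = n + 1 ∧ (∃ j, n = 2 ^ j) ∧ Nat.card (Sect A E) = n * n ∧ (∀ u : Sect A E, u ^ 2 = 1) ∧
          ∀ U : Subgroup (Sect A E), (∀ u ∈ U, act A E x u ∈ U) → U = ⊥ ∨ U = ⊤ := by
        intro x hxK hx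
        obtain ⟨s, hs, h⟩ := prime_bound A E f hfinj hAE hEK hEc hCE β halt hnd hinv (by omega)
          hℓA hℓM hxK hx
        have hse : s ≤ e := Nat.mul_self_le_mul_self_iff.1 (hs.trans hle)
        have hen : e ≤ n := Nat.le_mul_of_pos_left e hm
        rcases h with h | ⟨r, j, hr, hsr, hℓs, hrest⟩
        · omega
        have hℓeq : ℓ = n + 1 := by omega
        have hsn : s = n := by omega
        have hm1 : m = 1 := by
          have h1 : 1 * e = m * e := by rw [one_mul, ← hn]; omega
          exact (Nat.eq_of_mul_eq_mul_right he0 h1).symm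
        have hMn : Nat.card (Sect A E) = n * n := le_antisymm (hle.trans (Nat.mul_le_mul hen hen)) (hsn ▸ hs)
        obtain ⟨hexp, hirr⟩ := hrest (by rw [hsn]; exact hMn.symm)
        have hr2 : r = 2 := by
          by_contra hr2
          have h1 : Odd n := hsn ▸ hsr ▸ (hr.odd_of_ne_two hr2).pow
          obtain ⟨t, ht⟩ := h1
          have := hℓ.eq_two_or_odd
          omega
        subst hr2
        exact ⟨hm1, hℓeq, ⟨j, hsn ▸ hsr⟩, hMn, hexp, hirr⟩
      obtain ⟨x, hx⟩ := exists_prime_orderOf_dvd_card' (G := Subgroup.centralizer (A : Set G)) ℓ hℓK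
      obtain ⟨h1, h2, h3, h4, h5, -⟩ := main x x.2 (by rw [Subgroup.orderOf_coe, hx])
      exact ⟨h1, h2, h3, h4, h5, fun y hy hy' => (main y hy hy').2.2.2.2.2⟩
    have hcen : m = 1 → A ≤ Subgroup.center G := by
      intro hm1 a ha
      have h1 : Subgroup.centralizer (A : Set G) = ⊤ :=
        Subgroup.index_eq_one.1 (Nat.dvd_one.1 (hm1 ▸ hidx))
      refine Subgroup.mem_center_iff.2 fun g => ?_
      exact (Subgroup.mem_centralizer_iff.1 (h1 ▸ Subgroup.mem_top g) a ha).symm
    have hsq : (∀ u : Sect A E, u ^ 2 = 1) → ∀ x ∈ E, x ^ 2 ∈ A := by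
      intro h x hx
      have h1 := congrArg Subtype.val (h ⟨_, x, hx, rfl⟩)
      rw [SubmonoidClass.coe_pow, Subgroup.coe_one] at h1
      rw [← QuotientGroup.eq_one_iff]
      exact h1
    have hback : m = 1 → ∀ g : G, (∀ y ∈ E, ⁅g, y⁆ ∈ A) → g ∈ E := fun hm1 g hg =>
      mem_of_act_eq_one A E f hfinj hAE hEK hEc hCE
        (Subgroup.mem_centralizer_iff.2 fun a ha =>
          (Subgroup.mem_center_iff.1 (hcen hm1 ha) g).symm)
        (MonoidHom.mem_ker.1 ((mem_ker_act A E g).2 hg))
    refine ⟨A, E, hAn, hEn, hAcyc, ?_⟩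
    rcases (by omega : n = 2 ∨ 3 ≤ n) with hn2' | hn3
    · have hme : m = 1 ∧ e = 2 := by
        have h1 : e ≤ m * e := Nat.le_mul_of_pos_left e hm
        have h2 : e = 2 := by omega
        refine ⟨?_, h2⟩
        rw [hn, h2] at hn2'
        omega
      obtain ⟨hm1, he2'⟩ := hme
      obtain ⟨h4, hexp, haut⟩ := klein_of_pairing β halt hnd hM1 (by rw [he2'] at hle; exact hle)
      have hAq : Nat.card A ∣ q - 1 := by rwa [hm1, pow_one] at hAdvd
      have hker' : (act A E).ker = E := by
        refine le_antisymm (fun g hg => hback hm1 g ((mem_ker_act A E g).1 hg)) fun y hy =>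
          (mem_ker_act A E y).2 fun z hz => hEc (Subgroup.commutator_mem_commutator hy hz)
      have hEi : E.index ∣ 6 := by
        rw [← hker', Subgroup.index_ker]
        exact (Subgroup.card_subgroup_dvd_card _).trans haut
      refine ⟨hcen hm1, hAE, hEA, hAq, hEc, hsq hexp, hrad, hAmax, hback hm1,
        Or.inl ⟨?_, (card_sect A E hAE).symm.trans h4, hEi, ?_⟩⟩
      · rw [he, hmF, hm1, he2', pow_one]
      · have h2A : 2 ∣ Nat.card A := hprimes 2 Nat.prime_two (by rw [h4]; norm_num)
        have hG : Nat.card G ∣ Nat.card A * 24 := by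
          rw [← E.card_mul_index, card_eq_sect A E hAE, h4, mul_assoc]
          exact mul_dvd_mul_left _ (mul_dvd_mul_left 4 hEi)
        have h1 : q + 1 ∣ 24 := by
          rw [hn2'] at horb
          have h2 := horb.trans (hG.trans (mul_dvd_mul_right hAq 24))
          rw [show q ^ 2 - 1 = (q - 1) * (q + 1) by rw [mul_comm, ← Nat.sq_sub_sq, one_pow]] at h2
          exact Nat.dvd_of_mul_dvd_mul_left (by have := (Fact.out : q.Prime).two_le; omega) h2
        have h3 := Nat.le_of_dvd (by norm_num) h1
        have hq2 : q ≠ 2 := fun h => hqA (h ▸ h2A)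
        exact mem_five Fact.out hq2 h1
    · -- primitive prime divisors
      by_cases h26 : q = 2 ∧ n = 6
      · exfalso
        obtain ⟨rfl, hn6⟩ := h26
        have hpos : 0 < 2 ^ m - 1 := by
          have := Nat.one_lt_two_pow hm.ne'
          omega
        have hA1 : Nat.card A ≠ 1 := by
          intro h
          obtain ⟨r, hr, hrd⟩ := Nat.exists_prime_and_dvd hM1.ne'
          have := hprimes r hr hrd
          rw [h, Nat.dvd_one] at this
          exact hr.one_lt.ne' this
        have hA7 : Nat.card A ≤ 2 ^ m - 1 := Nat.le_of_dvd hpos hAdvd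
        have hmle : m ≤ 3 := by
          by_contra h
          have : 4 * 2 ≤ m * e := Nat.mul_le_mul (by omega) he2
          omega
        rw [hn] at hn6
        interval_cases m
        · rw [pow_one] at hA7
          have : 0 < Nat.card A := Nat.card_pos
          omega
        · obtain ⟨h1, -⟩ := big 7 (by norm_num) (by rw [hn, hn6]; norm_num) (by omega) (fun h => by
            have := Nat.le_of_dvd (by norm_num) (h.trans hAdvd); omega)
          omega
        · have he3 : e = 2 := by omega
          obtain ⟨r, hr, hrd⟩ := Nat.exists_prime_and_dvd hM1.ne'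
          have h7 : r ∣ 7 := (hprimes r hr hrd).trans (by simpa using hAdvd)
          have := (Nat.prime_dvd_prime_iff_eq hr (by norm_num)).1 h7
          have := Nat.le_of_dvd (by omega) hrd
          rw [he3] at hle
          omega
      obtain ⟨ℓ, hℓ, hℓd, hℓp⟩ := Cfsg.Agent.S2904.result q n (Fact.out : q.Prime).one_lt
        (by omega) h26 (by omega)
      have hprim_le : ∀ p : ℕ, p.Prime → p ∣ q ^ n - 1 → (∀ k, 0 < k → k < n → ¬ p ∣ q ^ k - 1) →
          n + 1 ≤ p := by
        intro p hp hpd hpp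
        haveI := Fact.mk hp
        have hq0 : (q : ZMod p) ≠ 0 := by
          intro h
          rw [ZMod.natCast_eq_zero_iff] at h
          have h2 := Nat.dvd_sub (h.trans (dvd_pow_self q (by omega : n ≠ 0))) hpd
          rw [Nat.sub_sub_self (Nat.one_le_pow _ _ (Fact.out : q.Prime).pos)] at h2
          exact hp.one_lt.ne' (Nat.dvd_one.1 h2)
        have key : ∀ k, p ∣ q ^ k - 1 ↔ (q : ZMod p) ^ k = 1 := fun k => by
          rw [← ZMod.natCast_eq_zero_iff, Nat.cast_sub (Nat.one_le_pow _ _ (Fact.out : q.Prime).pos),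
            Nat.cast_one, sub_eq_zero, Nat.cast_pow]
        have hord : orderOf (q : ZMod p) = n :=
          (orderOf_eq_iff (by omega)).2 ⟨(key n).1 hpd, fun k hk hk0 h => hpp k hk0 hk ((key k).2 h)⟩
        have := Nat.le_of_dvd (by have := hp.two_le; omega)
          (hord ▸ ZMod.orderOf_dvd_card_sub_one hq0)
        omega
      have hnotA : ∀ p : ℕ, p.Prime → (∀ k, 0 < k → k < n → ¬ p ∣ q ^ k - 1) → ¬ p ∣ Nat.card A := by
        intro p _ hpp h
        refine hpp m hm ?_ (h.trans hAdvd)
        calc m = m * 1 := (mul_one m).symm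
          _ < m * e := Nat.mul_lt_mul_of_pos_left (by omega) hm
      obtain ⟨hm1, hℓeq, ⟨j, hj⟩, hMn, hexp, hirr⟩ :=
        big ℓ hℓ hℓd (hprim_le ℓ hℓ hℓd hℓp) (hnotA ℓ hℓ hℓp)
      have h2A : 2 ∣ Nat.card A := by
        refine hprimes 2 Nat.prime_two ?_
        rw [hMn, hj]
        exact dvd_mul_of_dvd_left (dvd_pow_self 2 (by rintro rfl; simp at hj; omega)) _
      have hq2 : q ≠ 2 := fun h => hqA (h ▸ h2A)
      have hK : ∀ g, g ∈ Subgroup.centralizer (A : Set G) := fun g =>
        Subgroup.mem_centralizer_iff.2 fun a ha => (Subgroup.mem_center_iff.1 (hcen hm1 ha) g).symm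
      obtain ⟨hq3, hn4⟩ := eq_three_four (Fact.out : q.Prime) hq2 hj hn3
        (fun p hp hpd hpp => (big p hp hpd (hprim_le p hp hpd hpp) (hnotA p hp hpp)).2.1) (by
          intro hdd
          haveI := Fact.mk hℓ
          rw [← hℓeq] at hdd
          obtain ⟨P, hP⟩ := Sylow.exists_subgroup_card_pow_prime (G := G) (n := 2) ℓ
            (by rw [pow_two]; exact hdd.trans horb)
          let X := Sect A E
          letI : MulAction P X := MulAction.compHom X ((act A E).comp P.subtype)
          haveI : Fintype X := Fintype.ofFinite X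
          have h := CfsgLib.Recognition.Extremely.card_dvd_pred_of_free (A := P) (1 : X)
            (fun a => map_one (act A E (a : G))) (fun a u ha hau => by
              by_contra hu
              have hd : orderOf (a : G) ∣ ℓ ^ 2 := by
                rw [Subgroup.orderOf_coe, ← hP]; exact orderOf_dvd_natCard a
              obtain ⟨i, -, hi⟩ := (Nat.dvd_prime_pow hℓ).1 hd
              have hi0 : i ≠ 0 := by
                rintro rfl
                exact ha (Subtype.ext (orderOf_eq_one_iff.1 (by rw [hi, pow_zero])))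
              have hy : orderOf ((a : G) ^ ℓ ^ (i - 1)) = ℓ := by
                rw [orderOf_pow' _ (pow_ne_zero _ hℓ.ne_zero), hi,
                  Nat.gcd_eq_right (pow_dvd_pow ℓ (Nat.sub_le i 1)),
                  Nat.pow_div (Nat.sub_le i 1) hℓ.pos, show i - (i - 1) = 1 by omega, pow_one]
              set y := (a : G) ^ ℓ ^ (i - 1)
              let U : Subgroup X :=
                { carrier := {w | act A E y w = w}
                  one_mem' := map_one (act A E y)
                  mul_mem' := fun {v w} hv hw => (map_mul (act A E y) v w).trans (congrArg₂ (· * ·) hv hw)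
                  inv_mem' := fun {v} hv => (map_inv (act A E y) v).trans (congrArg Inv.inv hv) }
              have hfix : ∀ k : ℕ, act A E ((a : G) ^ k) u = u := by
                intro k
                induction k with
                | zero => simp
                | succ k ih => rw [pow_succ, map_mul, MulAut.mul_apply, show act A E (a : G) u = u from hau, ih]
              rcases hirr y (hK y) hy U (fun w hw => show act A E y (act A E y w) = act A E y w by
                rw [show act A E y w = w from hw, show act A E y w = w from hw]) with h | h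
              · have hm' : u ∈ U := hfix _
                rw [h] at hm'
                exact hu (Subgroup.mem_bot.1 hm')
              · have hy1 : act A E y = 1 := MulEquiv.ext fun w => (h ▸ Subgroup.mem_top w : w ∈ U)
                have hyE := mem_of_act_eq_one A E f hfinj hAE hEK hEc hCE (hK y) hy1
                have hd' : ℓ ∣ Nat.card E := hy ▸ Subgroup.orderOf_dvd_natCard E hyE
                rw [card_eq_sect A E hAE] at hd'
                exact (hℓ.dvd_mul.1 hd').elim (hnotA ℓ hℓ hℓp)
                  (fun hh => hnotA ℓ hℓ hℓp (hprimes ℓ hℓ hh)))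
          rw [hP, ← Nat.card_eq_fintype_card, hMn] at h
          have h2 : n * n - 1 = (n - 1) * (n + 1) := by
            rw [mul_comm (n - 1), ← Nat.sq_sub_sq, pow_two, one_pow]
          rw [h2, ← hℓeq, pow_two] at h
          have h3 := Nat.le_of_dvd (by omega) (Nat.dvd_of_mul_dvd_mul_right hℓ.pos h)
          omega)
      refine ⟨hcen hm1, hAE, hEA, by rwa [hm1, pow_one] at hAdvd, hEc, hsq hexp, hrad, hAmax,
        hback hm1, Or.inr ⟨?_, hq3, ?_⟩⟩
      · rw [he, hmF, hm1, pow_one, hq3, show e = 4 by rw [hn, hm1, one_mul] at hn4; exact hn4]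
        norm_num
      · rw [← card_sect A E hAE, hMn, hn4]

end CfsgLib.Recognition.Huppert
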