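import Mathlib

/-!
Prime powers one less than a prime power.
-/

set_option autoImplicit false

namespace CfsgLib.Recognition.Huppert

/-- If `2 ^ n - 1` is a positive power of `p`, it is `p` itself. -/
theorem eq_one_of_two_pow_sub_one {p n k : ℕ} (hp : p.Prime) (hk : 1 ≤ k) (h : 2 ^ n - 1 = p ^ k) :
    k = 1 := by
  have hn2 : 2 ≤ n := by
    by_contra hn
    have h1 : 2 ^ n - 1 ≤ 1 := by
      interval_cases n <;> norm_num
    have := one_lt_pow₀ hp.one_lt (by omega : k ≠ 0)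
    omega
  have hsum : p ^ k + 1 = 2 ^ n := by
    have := Nat.one_le_two_pow (n := n)
    omega
  have hpodd : Odd p := by
    rcases hp.eq_two_or_odd' with rfl | h'
    · exfalso
      have h2 : 2 ∣ 2 ^ k := dvd_pow_self 2 (by omega)
      have h3 : 2 ∣ 2 ^ n := dvd_pow_self 2 (by omega)
      omega
    · exact h'
  by_contra hk1
  rcases Nat.even_or_odd k with ⟨j, rfl⟩ | hodd
  · have h4 : 4 ∣ 2 ^ n := (show (4 : ℕ) = 2 ^ 2 by norm_num) ▸ pow_dvd_pow 2 hn2
    obtain ⟨t, ht⟩ := hpodd.pow (n := j)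
    rw [pow_add, ht] at hsum
    have h5 : (2 * t + 1) * (2 * t + 1) + 1 = 4 * (t * t + t) + 2 := by ring
    omega
  · obtain ⟨t, rfl⟩ := hodd
    have hdvd : p + 1 ∣ p ^ (2 * t + 1) + 1 := by
      simpa using (odd_two_mul_add_one t).nat_add_dvd_pow_add_pow p 1
    obtain ⟨w, hw⟩ := hdvd
    obtain ⟨a, -, ha⟩ := (Nat.dvd_prime_pow Nat.prime_two).1 (hsum ▸ ⟨w, hw⟩ : p + 1 ∣ 2 ^ n)
    have hwd : w ∣ 2 ^ n := ⟨p + 1, by rw [← hsum, hw, mul_comm]⟩
    obtain ⟨b, -, hb⟩ := (Nat.dvd_prime_pow Nat.prime_two).1 hwd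
    have hp2 := hp.two_le
    have hz : (w : ZMod 2) = 1 := by
      -- the quotient is an alternating sum of odd length
      have key : ∀ s : ℕ, ∃ v : ℕ, Odd v ∧ (p + 1) * v = p ^ (2 * s + 1) + 1 := by
        intro s
        induction s with
        | zero => exact ⟨1, odd_one, by ring⟩
        | succ s ih =>
          obtain ⟨v, hv, hve⟩ := ih
          have hge : p ^ (2 * s + 1) * (p ^ 2 - 1) = p ^ (2 * s + 1) * (p - 1) * (p + 1) := by
            have hf : p ^ 2 - 1 = (p + 1) * (p - 1) := by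
              simpa using Nat.sq_sub_sq p 1
            rw [hf]; ring
          refine ⟨v + p ^ (2 * s + 1) * (p - 1), hv.add_even ?_, ?_⟩
          · exact (Nat.Odd.sub_odd hpodd odd_one).mul_left _
          · rw [mul_add, hve, mul_comm (p + 1) (p ^ (2 * s + 1) * (p - 1)), ← hge, Nat.mul_sub, mul_one,
              ← pow_add]
            have hle : p ^ (2 * s + 1) ≤ p ^ (2 * s + 1 + 2) := Nat.pow_le_pow_right hp.pos (by omega)
            rw [show 2 * (s + 1) + 1 = 2 * s + 1 + 2 by ring]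
            omega
      obtain ⟨v, hv, hve⟩ := key t
      have hwv : w = v := Nat.eq_of_mul_eq_mul_left (by omega) (hw.symm.trans hve.symm)
      rw [hwv]
      obtain ⟨r, rfl⟩ := hv
      push_cast
      rw [show (2 : ZMod 2) = 0 from rfl]; ring
    rcases Nat.eq_zero_or_pos b with rfl | hb0
    · rw [pow_zero] at hb
      subst hb
      have h1 : p ^ (2 * t + 1) = p ^ 1 := by rw [pow_one]; omega
      exact hk1 (Nat.pow_right_injective hp.two_le h1)
    · rw [hb, Nat.cast_pow, show ((2 : ℕ) : ZMod 2) = 0 from rfl, zero_pow hb0.ne'] at hz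
      exact zero_ne_one hz

/-- If `q ^ n` is one more than a power of two and `q` is prime, then `n = 1` or `q ^ n = 9`. -/
theorem eq_one_or_nine {q n k : ℕ} (hq : q.Prime) (hn : 1 ≤ n) (h : q ^ n - 1 = 2 ^ k) :
    n = 1 ∨ (q = 3 ∧ n = 2 ∧ k = 3) := by
  rcases (by omega : n = 1 ∨ 2 ≤ n) with h1 | hn2
  · exact Or.inl h1
  have hpos := Nat.one_le_pow n q hq.pos
  have hqodd : Odd q := by
    rcases hq.eq_two_or_odd' with rfl | h'
    · exfalso
      rcases Nat.eq_zero_or_pos k with rfl | hk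
      · have : 2 ^ 2 ≤ 2 ^ n := Nat.pow_le_pow_right (by norm_num) hn2
        omega
      · have h2 : 2 ∣ 2 ^ k := dvd_pow_self 2 hk.ne'
        have h3 : 2 ∣ 2 ^ n := dvd_pow_self 2 (by omega)
        omega
    · exact h'
  rcases Nat.even_or_odd n with ⟨j, rfl⟩ | hodd
  · right
    have hj : 1 ≤ j := by omega
    have hprod : (q ^ j + 1) * (q ^ j - 1) = 2 ^ k := by
      rw [← h, ← Nat.sq_sub_sq, one_pow, ← pow_mul, mul_two]
    obtain ⟨a, -, ha⟩ := (Nat.dvd_prime_pow Nat.prime_two).1 (⟨_, hprod.symm⟩ : q ^ j + 1 ∣ 2 ^ k)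
    obtain ⟨b, -, hb⟩ := (Nat.dvd_prime_pow Nat.prime_two).1 (⟨q ^ j + 1, by rw [← hprod, mul_comm]⟩ : q ^ j - 1 ∣ 2 ^ k)
    have h3 : 3 ≤ q ^ j := by
      have h3q : 3 ≤ q := by obtain ⟨t, rfl⟩ := hqodd; have := hq.two_le; omega
      exact h3q.trans (Nat.le_self_pow (by omega) q)
    have hb1 : b = 1 := by
      rcases (by omega : b = 0 ∨ b = 1 ∨ 2 ≤ b) with rfl | h' | h'
      · rw [pow_zero] at hb; omega
      · exact h'
      · exfalso
        have ha2 : 2 ≤ a := by
          by_contra hle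
          have : 2 ^ a ≤ 2 := (Nat.pow_le_pow_right (by norm_num) (by omega : a ≤ 1)).trans (by norm_num)
          omega
        have h4b : 4 ∣ 2 ^ b := (show (4 : ℕ) = 2 ^ 2 by norm_num) ▸ pow_dvd_pow 2 h'
        have h4a : 4 ∣ 2 ^ a := (show (4 : ℕ) = 2 ^ 2 by norm_num) ▸ pow_dvd_pow 2 ha2
        omega
    rw [hb1, pow_one] at hb
    have hqj : q ^ j = 3 := by omega
    have hq3 : q = 3 := by
      have h3q := Nat.le_self_pow (by omega : j ≠ 0) q
      obtain ⟨t, rfl⟩ := hqodd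
      have := hq.two_le
      omega
    subst hq3
    have hj1 : j = 1 := Nat.pow_right_injective (by norm_num : 2 ≤ 3) (hqj.trans (pow_one 3).symm)
    subst hj1
    refine ⟨rfl, rfl, ?_⟩
    norm_num at h
    exact Nat.pow_right_injective le_rfl (h.symm.trans (by norm_num : (8 : ℕ) = 2 ^ 3))
  · exfalso
    obtain ⟨t, rfl⟩ := hodd
    have hq2 := hq.two_le
    have key : ∀ s : ℕ, ∃ v : ℕ, Odd v ∧ (q - 1) * v = q ^ (2 * s + 1) - 1 ∧ (1 ≤ s → 1 < v) := by
      intro s
      induction s with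
      | zero => exact ⟨1, odd_one, by simp, by omega⟩
      | succ s ih =>
        obtain ⟨v, hv, hve, -⟩ := ih
        refine ⟨v + q ^ (2 * s + 1) * (q + 1), hv.add_even ((hqodd.add_one).mul_left _), ?_, fun _ => ?_⟩
        · have hf : q ^ 2 - 1 = (q + 1) * (q - 1) := by simpa using Nat.sq_sub_sq q 1
          rw [mul_add, hve, show (q - 1) * (q ^ (2 * s + 1) * (q + 1)) = q ^ (2 * s + 1) * (q ^ 2 - 1) by
            rw [hf]; ring, Nat.mul_sub, mul_one, ← pow_add, show 2 * (s + 1) + 1 = 2 * s + 1 + 2 by ring]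
          have hle : q ^ (2 * s + 1) ≤ q ^ (2 * s + 1 + 2) := Nat.pow_le_pow_right hq.pos (by omega)
          have := Nat.one_le_pow (2 * s + 1) q hq.pos
          omega
        · have : 1 < q ^ (2 * s + 1) * (q + 1) :=
            lt_of_lt_of_le (by omega) (Nat.le_mul_of_pos_left _ (by positivity))
          omega
    obtain ⟨v, hv, hve, hv1⟩ := key t
    obtain ⟨b, -, hb⟩ := (Nat.dvd_prime_pow Nat.prime_two).1
      (⟨q - 1, by rw [← h, ← hve, mul_comm]⟩ : v ∣ 2 ^ k)
    rcases Nat.eq_zero_or_pos b with rfl | hb0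
    · have := hv1 (by omega)
      rw [hb, pow_zero] at this
      omega
    · rw [hb] at hv
      exact (Nat.not_odd_iff_even.2 ((Nat.even_pow).2 ⟨even_two, hb0.ne'⟩)) hv

end CfsgLib.Recognition.Huppert
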