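import Mathlib
import Cfsg.Agent.Lib.LocalEven.SL2ThreeRecog

/-!
Groups with a unique involution which are extensions of a central cyclic group by `A_4`.
-/

set_option autoImplicit false

namespace CfsgLib.Recognition.Huppert

open scoped commutatorElement MatrixGroups

variable {G : Type*} [Group G] [Finite G]

omit [Finite G] in
/-- A subgroup containing a subgroup containing all commutators from `H` is normalised by `H`. -/
theorem conj_mem_of_commutator {A E B : Subgroup G} (hc : ⁅E, E⁆ ≤ A) (hAB : A ≤ B) (hBE : B ≤ E)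
    {g b : G} (hg : g ∈ E) (hb : b ∈ B) : g * b * g⁻¹ ∈ B := by
  rw [show g * b * g⁻¹ = ⁅g, b⁆ * b by rw [commutatorElement_def, inv_mul_cancel_right]]
  exact mul_mem (hAB (hc (Subgroup.commutator_mem_commutator hg (hBE hb)))) hb

omit [Finite G] in
/-- Adjoining an element to a central subgroup gives a commutative subgroup. -/
theorem sup_zpowers_comm {A : Subgroup G} (hA : A ≤ Subgroup.center G) (d : G) :
    ∀ a ∈ A ⊔ Subgroup.zpowers d, ∀ b ∈ A ⊔ Subgroup.zpowers d, a * b = b * a := by
  have h1 : A ⊔ Subgroup.zpowers d ≤ Subgroup.centralizer ({d} : Set G) :=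
    sup_le (hA.trans (Subgroup.center_le_centralizer _)) (by
      rw [Subgroup.zpowers_le, Subgroup.mem_centralizer_singleton_iff])
  intro a ha b hb
  have h2 : A ⊔ Subgroup.zpowers d ≤ Subgroup.centralizer ({a} : Set G) :=
    sup_le (hA.trans (Subgroup.center_le_centralizer _)) (by
      rw [Subgroup.zpowers_le, Subgroup.mem_centralizer_singleton_iff]
      exact (Subgroup.mem_centralizer_singleton_iff.1 (h1 ha)).symm)
  exact (Subgroup.mem_centralizer_singleton_iff.1 (h2 hb)).symm

omit [Finite G] in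
/-- The extension is proper. -/
theorem extension_ne_top {A E : Subgroup G} (hA : A ≤ Subgroup.center G) (hc : ⁅E, E⁆ ≤ A)
    (hEA : ¬ E ≤ A)
    (hmax : ∀ B : Subgroup G, B.Normal → A ≤ B → (∀ a ∈ B, ∀ b ∈ B, a * b = b * a) → B ≤ A) :
    E ≠ ⊤ := by
  intro hE
  obtain ⟨d, -, hdA⟩ := SetLike.not_le_iff_exists.1 hEA
  refine hdA (hmax (A ⊔ Subgroup.zpowers d) ⟨fun b hb g => ?_⟩ le_sup_left (sup_zpowers_comm hA d)
    (Subgroup.mem_sup_right (Subgroup.mem_zpowers d)))
  exact conj_mem_of_commutator hc le_sup_left (hE ▸ le_top) (hE ▸ Subgroup.mem_top g) hb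

/-- The recognition. -/
theorem exists_sl23 {A E : Subgroup G} [E.Normal] [A.Normal] (hA : A ≤ Subgroup.center G) (hAE : A ≤ E)
    (hEA : ¬ E ≤ A) (hc : ⁅E, E⁆ ≤ A) (hsq : ∀ x ∈ E, x ^ 2 ∈ A)
    (hrad : ∀ x ∈ E, (∀ y ∈ E, x * y = y * x) → x ∈ A)
    (hmax : ∀ B : Subgroup G, B.Normal → A ≤ B → (∀ a ∈ B, ∀ b ∈ B, a * b = b * a) → B ≤ A)
    (hinv : ∀ x y : G, x ^ 2 = 1 → x ≠ 1 → y ^ 2 = 1 → y ≠ 1 → x = y)
    (h4 : A.relIndex E = 4) (h3 : E.index = 3) {k : ℕ} (hk : Odd k) (hk3 : ¬ 3 ∣ k)
    (hAcard : Nat.card A = 2 * k) :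
    ∃ U : Subgroup G, Nonempty (U ≃* SL(2, ZMod 3)) ∧ Nat.card U = 24 := by
  classical
  haveI : Fact (Nat.Prime 2) := ⟨Nat.prime_two⟩
  haveI : Fact (Nat.Prime 3) := ⟨Nat.prime_three⟩
  obtain ⟨z', hz'⟩ := exists_prime_orderOf_dvd_card' (G := A) 2 (hAcard ▸ dvd_mul_right 2 k)
  set z : G := (z' : G) with hzdef
  have hzA : z ∈ A := z'.2
  have hzo : orderOf z = 2 := by rw [hzdef, Subgroup.orderOf_coe, hz']
  have hz2 : z ^ 2 = 1 := hzo ▸ pow_orderOf_eq_one z
  have hz1 : z ≠ 1 := fun h => by rw [h, orderOf_one] at hzo; omega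
  have hcen : ∀ a ∈ A, ∀ g : G, g * a = a * g := fun a ha g => Subgroup.mem_center_iff.1 (hA ha) g
  have hEcard : Nat.card E = Nat.card A * 4 := by
    rw [← h4, ← Subgroup.relIndex_bot_left E, ← Subgroup.relIndex_bot_left A,
      Subgroup.relIndex_mul_relIndex ⊥ A E bot_le hAE]
  obtain ⟨x, hx⟩ := exists_prime_orderOf_dvd_card' (G := G) 3 (h3 ▸ E.index_dvd_card)
  have hx3 : x ^ 3 = 1 := hx ▸ pow_orderOf_eq_one x
  have hxE : x ∉ E := by
    intro h
    have h1 := hx ▸ Subgroup.orderOf_dvd_natCard E h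
    rw [hEcard, hAcard] at h1
    rcases (Nat.prime_three.dvd_mul.1 h1) with h2 | h2
    · rcases (Nat.prime_three.dvd_mul.1 h2) with h5 | h5
      · omega
      · exact hk3 h5
    · omega
  obtain ⟨y, hy, hyA⟩ := SetLike.not_le_iff_exists.1 hEA
  set d : G := y ^ k with hd
  have hdE : d ∈ E := pow_mem hy k
  have hdA : d ∉ A := by
    obtain ⟨j, hj⟩ := hk
    intro h
    rw [hd, hj, pow_succ, pow_mul] at h
    exact hyA ((Subgroup.mul_mem_cancel_left _ (pow_mem (hsq y hy) j)).1 h)
  have hd4 : d ^ 4 = 1 := by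
    rw [hd, ← pow_mul, show k * 4 = 2 * (2 * k) by ring, pow_mul, ← hAcard]
    exact orderOf_dvd_iff_pow_eq_one.1 (Subgroup.orderOf_dvd_natCard A (hsq y hy))
  have two : ∀ w ∈ E, w ∉ A → w ^ 4 = 1 → w ^ 2 = z := fun w _ hwA hw =>
    hinv _ _ (by rw [← pow_mul]; exact hw) (fun h => hwA (by
      by_cases hw1 : w = 1
      · rw [hw1]; exact one_mem A
      · rw [hinv w z h hw1 hz2 hz1]; exact hzA)) hz2 hz1
  have hd2 : d ^ 2 = z := two d hdE hdA hd4
  have hcA : ∀ w, x * w * x⁻¹ ∈ A → w ∈ A := fun w h => by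
    have := (inferInstance : A.Normal).conj_mem _ h x⁻¹
    simpa [mul_assoc] using this
  set e := x * d * x⁻¹ with he
  have heE : e ∈ E := (inferInstance : E.Normal).conj_mem d hdE x
  have heA : e ∉ A := fun h => hdA (hcA d h)
  have he2 : e ^ 2 = z := by
    rw [he, conj_pow, hd2, hcen z hzA, mul_inv_cancel_right]
  -- `x` moves the coset of `d`
  have hgen : ∀ g : G, g ∈ E ⊔ Subgroup.zpowers x := by
    intro g
    have h1 : (E ⊔ Subgroup.zpowers x).index ∣ 3 := h3 ▸ Subgroup.index_dvd_of_le le_sup_left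
    rcases (Nat.dvd_prime Nat.prime_three).1 h1 with h | h
    · rw [Subgroup.index_eq_one.1 h]; exact Subgroup.mem_top g
    · exfalso
      refine hxE ?_
      have heq := Subgroup.relIndex_mul_index (show E ≤ E ⊔ Subgroup.zpowers x from le_sup_left)
      rw [h, h3, Nat.mul_eq_right (by omega)] at heq
      exact Subgroup.relIndex_eq_one.1 heq (Subgroup.mem_sup_right (Subgroup.mem_zpowers x))
  have hsep : ∀ w ∈ E, w ∉ A → w⁻¹ * (x * w * x⁻¹) ∉ A := by
    intro w hwE hwA hmem
    set B := A ⊔ Subgroup.zpowers w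
    have hBE : B ≤ E := sup_le hAE (Subgroup.zpowers_le.2 hwE)
    have hconj : B.map (MulAut.conj x).toMonoidHom ≤ B := by
      rw [Subgroup.map_sup]
      refine sup_le ?_ ?_
      · rintro _ ⟨a, ha, rfl⟩
        exact Subgroup.mem_sup_left ((inferInstance : A.Normal).conj_mem a ha x)
      · rw [MonoidHom.map_zpowers, Subgroup.zpowers_le]
        change x * w * x⁻¹ ∈ B
        rw [← mul_inv_cancel_left w (x * w * x⁻¹)]
        exact mul_mem (Subgroup.mem_sup_right (Subgroup.mem_zpowers w)) (Subgroup.mem_sup_left hmem)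
    have hxN : x ∈ Subgroup.normalizer (B : Set G) := by
      have heq : B.map (MulAut.conj x).toMonoidHom = B := Subgroup.eq_of_le_of_card_ge hconj
        (by rw [Subgroup.card_map_of_injective (MulAut.conj x).injective])
      rw [Subgroup.mem_normalizer_iff]
      intro b
      constructor
      · exact fun hb => heq.le ⟨b, hb, rfl⟩
      · intro hb
        obtain ⟨b', hb', hbb⟩ := heq.ge hb
        rw [(MulAut.conj x).injective hbb] at hb'
        exact hb'
    have hEN : E ≤ Subgroup.normalizer (B : Set G) := fun g hg => Subgroup.mem_normalizer_iff.2 fun b =>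
      ⟨fun hb => conj_mem_of_commutator hc le_sup_left hBE hg hb, fun hb => by
        have := conj_mem_of_commutator hc le_sup_left hBE (inv_mem hg) hb
        simpa [mul_assoc] using this⟩
    refine hwA (hmax B ⟨fun b hb g => ?_⟩ le_sup_left (sup_zpowers_comm hA w)
      (Subgroup.mem_sup_right (Subgroup.mem_zpowers w)))
    exact (Subgroup.mem_normalizer_iff.1 ((sup_le hEN (Subgroup.zpowers_le.2 hxN)) (hgen g)) b).1 hb
  have hde : d⁻¹ * e ∉ A := hsep d hdE hdA
  set f := x * e * x⁻¹ with hf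
  have hfE : f ∈ E := (inferInstance : E.Normal).conj_mem e heE x
  have hef : e⁻¹ * f ∉ A := hsep e heE heA
  have hxfx : x * f * x⁻¹ = d := by
    calc x * f * x⁻¹ = x ^ 3 * d * (x ^ 3)⁻¹ := by
          simp only [hf, he, pow_succ, pow_zero, one_mul, mul_inv_rev, mul_assoc]
      _ = d := by rw [hx3, one_mul, inv_one, mul_one]
  have hdf : d⁻¹ * f ∉ A := by
    intro h
    have h1 := (inferInstance : A.Normal).conj_mem _ h x
    rw [show x * (d⁻¹ * f) * x⁻¹ = (x * d * x⁻¹)⁻¹ * (x * f * x⁻¹) by group, hxfx, ← he] at h1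
    exact hde (by simpa using A.inv_mem h1)
  -- the four cosets
  let M := E.map (QuotientGroup.mk' A)
  have hM : Nat.card M = 4 := by
    have h := Subgroup.relIndex_map_map (QuotientGroup.mk' A) (⊥ : Subgroup G) E
    rw [Subgroup.map_bot, Subgroup.relIndex_bot_left, QuotientGroup.ker_mk', bot_sup_eq,
      sup_of_le_left hAE, h4] at h
    exact h
  have hfour : ∀ w ∈ E, w ∈ A ∨ d⁻¹ * w ∈ A ∨ e⁻¹ * w ∈ A ∨ (d * e)⁻¹ * w ∈ A := by
    intro w hw
    by_contra hno
    simp only [not_or] at hno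
    obtain ⟨n1, n2, n3, n4⟩ := hno
    have hde' : (d * e) ∉ A := fun h => hde (by
      have h2 : d⁻¹ * e = (d ^ 2)⁻¹ * (d * e) := by group
      rw [h2, hd2]; exact mul_mem (inv_mem hzA) h)
    haveI := Fintype.ofFinite M
    let v : Fin 5 → M := ![⟨_, w, hw, rfl⟩, ⟨_, d, hdE, rfl⟩, ⟨_, e, heE, rfl⟩,
      ⟨_, d * e, mul_mem hdE heE, rfl⟩, 1]
    have hne : ∀ a b : G, a⁻¹ * b ∉ A → QuotientGroup.mk' A a ≠ QuotientGroup.mk' A b :=
      fun a b h e => h (QuotientGroup.eq.1 e)
    have hne1 : ∀ a : G, a ∉ A → QuotientGroup.mk' A a ≠ 1 :=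
      fun a h e => h ((QuotientGroup.eq_one_iff a).1 e)
    have a1 := hne1 w n1
    have a2 := hne1 d hdA
    have a3 := hne1 e heA
    have a4 := hne1 (d * e) hde'
    have a5 := (hne d w n2).symm
    have a6 := (hne e w n3).symm
    have a7 := (hne (d * e) w n4).symm
    have a8 := hne d e hde
    have a9 := hne d (d * e) (by rwa [inv_mul_cancel_left])
    have a10 : QuotientGroup.mk' A e ≠ QuotientGroup.mk' A (d * e) := fun h => by
      have h2 := (inferInstance : A.Normal).conj_mem _ (QuotientGroup.eq.1 h) e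
      rw [mul_inv_cancel_left, mul_inv_cancel_right] at h2
      exact hdA h2
    have hv : Function.Injective v := by
      intro i j hij
      have h := congrArg Subtype.val hij
      fin_cases i <;> fin_cases j <;>
        first
        | rfl
        | exact absurd h a1 | exact absurd h.symm a1 | exact absurd h a2 | exact absurd h.symm a2
        | exact absurd h a3 | exact absurd h.symm a3 | exact absurd h a4 | exact absurd h.symm a4
        | exact absurd h a5 | exact absurd h.symm a5 | exact absurd h a6 | exact absurd h.symm a6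
        | exact absurd h a7 | exact absurd h.symm a7 | exact absurd h a8 | exact absurd h.symm a8
        | exact absurd h a9 | exact absurd h.symm a9 | exact absurd h a10 | exact absurd h.symm a10
    have := Nat.card_le_card_of_injective v hv
    rw [Nat.card_eq_fintype_card, Fintype.card_fin, hM] at this
    omega
  have hed : e * d = z * (d * e) := by
    have hm : ⁅e, d⁆ ∈ A := hc (Subgroup.commutator_mem_commutator heE hdE)
    have hne : ⁅e, d⁆ ≠ 1 := by
      intro h
      have hcomm : Commute e d := commutatorElement_eq_one_iff_mul_comm.1 h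
      refine hdA (hrad d hdE fun w hw => ?_)
      rcases hfour w hw with h' | h' | h' | h'
      · exact hcen w h' d
      · rw [← mul_inv_cancel_left d w]
        exact ((Commute.refl d).mul_right (hcen _ h' d)).eq
      · rw [← mul_inv_cancel_left e w]
        exact (hcomm.symm.mul_right (hcen _ h' d)).eq
      · rw [← mul_inv_cancel_left (d * e) w]
        exact (((Commute.refl d).mul_right hcomm.symm).mul_right (hcen _ h' d)).eq
    have hsq2 : ⁅e, d⁆ ^ 2 = 1 := by
      have h1 : e * d * e⁻¹ = ⁅e, d⁆ * d := by rw [commutatorElement_def, inv_mul_cancel_right]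
      have h2 := conj_pow (i := 2) (a := e) (b := d)
      rw [h1, hd2, hcen z hzA e, mul_inv_cancel_right,
        (show Commute ⁅e, d⁆ d from (hcen _ hm d).symm).mul_pow, hd2, mul_eq_right] at h2
      exact h2
    calc e * d = ⁅e, d⁆ * (d * e) := by simp [commutatorElement_def, mul_assoc]
      _ = _ := by rw [hinv _ _ hsq2 hne hz2 hz1]
  have hed' : e * d = d * d * d * e := by rw [hed, ← hd2, pow_two]; simp [mul_assoc]
  have hee : e * e = d * d := by rw [← pow_two, ← pow_two, he2, hd2]
  have hdd : d * d * d * d = 1 := by rw [← hd4, pow_succ, pow_succ, pow_succ, pow_one]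
  have hxxx : x * x * x = 1 := by rw [← hx3, pow_succ, pow_succ, pow_one]
  have hxd : x * d = e * x := by rw [he, inv_mul_cancel_right]
  obtain ⟨a, ha, hfa⟩ : ∃ a ∈ A, f = d * e * a := by
    rcases hfour f hfE with h' | h' | h' | h'
    · exact absurd (hcA e h') heA
    · exact absurd h' hdf
    · exact absurd h' hef
    · exact ⟨_, h', (mul_inv_cancel_left _ _).symm⟩
  have ha2 : a ^ 2 = 1 := by
    have hf2 : f ^ 2 = z := by rw [hf, conj_pow, he2, hcen z hzA, mul_inv_cancel_right]
    have hde2 : (d * e) ^ 2 = z := by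
      rw [pow_two, mul_assoc, ← mul_assoc e, hed', ← he2, pow_two]
      calc d * (d * d * d * e * e) = (d * d * d * d) * (e * e) := by simp [mul_assoc]
        _ = _ := by rw [hdd, one_mul]
    rw [hfa, (show Commute (d * e) a from hcen a ha _).mul_pow, hde2, mul_eq_left] at hf2
    exact hf2
  have htriple : ∃ d' e' x', CfsgLib.LocalEven.SL23.Rel d' e' x' ∧ d' ∈ E ∧ e' ∈ E ∧ d' ∉ A ∧
      d'⁻¹ * e' ∉ A ∧ e' ∉ A ∧ x' ∉ E ∧ d' ^ 2 = z := by
    by_cases ha1 : a = 1
    · rw [ha1, mul_one] at hfa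
      exact ⟨d, e, x, ⟨hdd, hee, hed', hxxx, hxd, by rw [← hfa, hf, inv_mul_cancel_right]⟩,
        hdE, heE, hdA, hde, heA, hxE, hd2⟩
    · rw [hinv a z ha2 ha1 hz2 hz1, hcen z hzA, ← hed] at hfa
      have hf2 : f * f = d * d := by
        rw [← pow_two, hf, conj_pow, he2, hcen z hzA, mul_inv_cancel_right, ← hd2, pow_two]
      have hdf' : d * f = e := by
        calc d * f = d * (d * d * d * e) := by rw [hfa, hed']
          _ = (d * d * d * d) * e := by simp [mul_assoc]
          _ = e := by rw [hdd, one_mul]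
      have hfd : f * d = d * d * d * f := by
        calc f * d = e * (d * d) := by rw [hfa, mul_assoc]
          _ = d * d * e := by rw [← hee, ← mul_assoc, mul_assoc]
          _ = d * d * d * f := by rw [mul_assoc (d * d), hdf']
      refine ⟨d, f, x * x, ⟨hdd, hf2, hfd, ?_, ?_, ?_⟩, hdE, hfE, hdA, hdf, fun h => heA (hcA e h),
        fun h => hxE ?_, hd2⟩
      · calc x * x * (x * x) * (x * x) = (x * x * x) * (x * x * x) := by simp [mul_assoc]
          _ = 1 := by rw [hxxx, one_mul]
      · rw [hf, he]; group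
      · rw [hdf', hf]
        calc x * x * (x * e * x⁻¹) = (x * x * x) * e * x⁻¹ := by simp [mul_assoc]
          _ = e * (x * x * x) * x⁻¹ := by rw [hxxx, one_mul, mul_one]
          _ = e * (x * x) := by simp [mul_assoc]
      · have h2 := mul_mem h h
        rwa [show x * x * (x * x) = (x * x * x) * x by simp [mul_assoc], hxxx, one_mul] at h2
  obtain ⟨d', e', x', hrel, hd'E, he'E, hd'A, hde'', he'A, hx'E, hd'2⟩ := htriple
  set U := Subgroup.closure {d', e', x'} with hU
  have hdU : d' ∈ U := Subgroup.subset_closure (by simp)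
  have heU : e' ∈ U := Subgroup.subset_closure (by simp)
  have hxU : x' ∈ U := Subgroup.subset_closure (by simp)
  have h8 : 8 ≤ Nat.card (U ⊓ E : Subgroup G) := by
    have ho : orderOf d' = 4 := by
      refine orderOf_eq_prime_pow (p := 2) (n := 1) ?_ ?_
      · rw [pow_one, hd'2]; exact hz1
      · rw [show 2 ^ (1 + 1) = 2 * 2 by norm_num, pow_mul, hd'2, hz2]
    have hle : Subgroup.zpowers d' ≤ U ⊓ E := Subgroup.zpowers_le.2 ⟨hdU, hd'E⟩
    have hdvd := Subgroup.card_dvd_of_le hle
    rw [Nat.card_zpowers, ho] at hdvd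
    have hne : Nat.card (U ⊓ E : Subgroup G) ≠ 4 := by
      intro h
      have heq := Subgroup.eq_of_le_of_card_ge hle (by rw [Nat.card_zpowers, ho, h])
      have he'' : e' ∈ Subgroup.zpowers d' := heq ▸ ⟨heU, he'E⟩
      rw [← mem_powers_iff_mem_zpowers, Submonoid.mem_powers_iff] at he''
      obtain ⟨i, hi⟩ := he''
      rcases Nat.even_or_odd i with ⟨j, hj⟩ | ⟨j, hj⟩
      · exact he'A (by rw [← hi, hj, ← two_mul, pow_mul, hd'2]; exact pow_mem hzA j)
      · refine hde'' ?_
        rw [← hi, hj, pow_succ', inv_mul_cancel_left, pow_mul, hd'2]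
        exact pow_mem hzA j
    have : 0 < Nat.card (U ⊓ E : Subgroup G) := Nat.card_pos
    obtain ⟨w, hw⟩ := hdvd
    omega
  have hrelU : E.relIndex U = 3 := by
    have hd3 : E.relIndex U ∣ 3 := h3 ▸ Subgroup.relIndex_dvd_index_of_normal E U
    exact ((Nat.dvd_prime Nat.prime_three).1 hd3).resolve_left fun h =>
      hx'E (Subgroup.relIndex_eq_one.1 h hxU)
  have hUcard : 24 ≤ Nat.card U := by
    have h := Subgroup.relIndex_mul_relIndex (⊥ : Subgroup G) (U ⊓ E) U bot_le inf_le_left
    rw [Subgroup.relIndex_bot_left, Subgroup.relIndex_bot_left, Subgroup.inf_relIndex_left, hrelU] at h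
    omega
  refine ⟨U, CfsgLib.LocalEven.SL23.nonempty_mulEquiv hrel U hU hUcard, le_antisymm ?_ hUcard⟩
  rw [hU]
  exact CfsgLib.LocalEven.SL23.card_closure_le hrel

end CfsgLib.Recognition.Huppert
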